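import Cfsg.Agent.Lib.Schur.Basic
import Cfsg.Agent.Lib.Schur.FibreProduct
import Cfsg.Agent.Lib.GL.Basic
import Cfsg.Agent.Lib.GL.Simple
import Cfsg.Agent.S0254
import Cfsg.Agent.S2086
import Cfsg.Agent.S2116

/-!
# Perfect double covers of a group with cyclic Schur multiplier

* `nonempty_equiv_of_double_covers`: two perfect double covers are isomorphic
* `nonempty_equiv_SL`: a perfect double cover of `PSL₂(F)`, `F` of odd order `> 3`, is `SL₂(F)`
-/

set_option autoImplicit false
set_option linter.style.haveILetI false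

namespace Cfsg.Agent.GWRankOne

open Subgroup Schur

universe u v w

theorem nonempty_equiv_of_double_covers {X : Type u} [Group X] [Finite X] {n : ℕ}
    (hX : Cfsg.HasCyclicSchurMultiplier X n) {A : Type v} [Group A] [Finite A] {B : Type w} [Group B] [Finite B]
    (α : A →* X) (β : B →* X) (hα : Function.Surjective α) (hβ : Function.Surjective β)
    (hAz : α.ker ≤ center A) (hBz : β.ker ≤ center B) (hA : _root_.commutator A = ⊤)
    (hB : _root_.commutator B = ⊤) (hA2 : Nat.card α.ker = 2) (hB2 : Nat.card β.ker = 2) :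
    Nonempty (A ≃* B) := by
  set σ := α.comp (fibreFst α β) with hσdef
  have hσ : Function.Surjective σ := hα.comp (fibreFst_surjective α hβ)
  have hker : ∀ x : fibre α β, x ∈ σ.ker → (x : A × B).1 ∈ α.ker ∧ (x : A × B).2 ∈ β.ker := fun x h =>
    ⟨h, (mem_fibre.1 x.2).symm.trans h⟩
  have hσz : σ.ker ≤ center (fibre α β) := fun x hx => mem_center_iff.2 fun g =>
    Subtype.ext (Prod.ext (mem_center_iff.1 (hAz (hker x hx).1) _) (mem_center_iff.1 (hBz (hker x hx).2) _))
  set M := σ.ker ⊓ _root_.commutator (fibre α β) with hMdef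
  obtain ⟨f, hf⟩ : ∃ f : Multiplicative (ZMod n) →* M, Function.Surjective f :=
    exists_surjective_of_central hX σ hσ hσz
  haveI : IsCyclic M := isCyclic_of_surjective f hf
  have hM2 : Nat.card M ≤ 2 := by
    obtain ⟨g, hg⟩ := IsCyclic.exists_generator (α := M)
    rw [← orderOf_eq_card_of_forall_mem_zpowers hg]
    refine Nat.le_of_dvd two_pos (orderOf_dvd_of_pow_eq_one (Subtype.ext (Subtype.ext (Prod.ext ?_ ?_))))
    · have h := Subgroup.orderOf_dvd_natCard _ (hker g g.2.1).1
      rw [hA2] at h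
      simpa using orderOf_dvd_iff_pow_eq_one.1 h
    · have h := Subgroup.orderOf_dvd_natCard _ (hker g g.2.1).2
      rw [hB2] at h
      simpa using orderOf_dvd_iff_pow_eq_one.1 h
  set D := _root_.commutator (fibre α β)
  have hsur1 : Function.Surjective ((fibreFst α β).comp D.subtype) := fun a => by
    obtain ⟨x, hx, hxa⟩ := exists_mem_commutator_of_surjective (fibreFst_surjective α hβ)
      (show a ∈ _root_.commutator A by rw [hA]; exact mem_top a)
    exact ⟨⟨x, hx⟩, hxa⟩
  have hsur2 : Function.Surjective ((fibreSnd α β).comp D.subtype) := fun b => by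
    obtain ⟨x, hx, hxb⟩ := exists_mem_commutator_of_surjective (fibreSnd_surjective hα β)
      (show b ∈ _root_.commutator B by rw [hB]; exact mem_top b)
    exact ⟨⟨x, hx⟩, hxb⟩
  have small : ∀ x y : D, (x : fibre α β) ∈ σ.ker → (y : fibre α β) ∈ σ.ker → x ≠ 1 → y ≠ 1 → x = y := by
    intro x y hx hy hx1 hy1
    by_contra hxy
    set x' : M := ⟨x, hx, x.2⟩
    set y' : M := ⟨y, hy, y.2⟩
    have h3 : 3 ≤ Nat.card M := by
      haveI := Fintype.ofFinite M
      classical
      rw [Nat.card_eq_fintype_card]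
      refine le_trans (le_of_eq ?_) (Finset.card_le_univ ({1, x', y'} : Finset M))
      rw [Finset.card_eq_three.2 ⟨1, x', y', ?_, ?_, ?_, rfl⟩]
      · exact fun h => hx1 (Subtype.ext (congrArg (fun m : M => (m : fibre α β)) h).symm)
      · exact fun h => hy1 (Subtype.ext (congrArg (fun m : M => (m : fibre α β)) h).symm)
      · exact fun h => hxy (Subtype.ext (congrArg (fun m : M => (m : fibre α β)) h))
    omega
  have hinj1 : Function.Injective ((fibreFst α β).comp D.subtype) := by
    rw [injective_iff_map_eq_one]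
    intro x hx
    by_contra hx1
    haveI : Nontrivial α.ker := by rw [← Finite.one_lt_card_iff_nontrivial, hA2]; omega
    obtain ⟨⟨a, ha⟩, ha1⟩ := exists_ne (1 : α.ker)
    obtain ⟨y, rfl⟩ := hsur1 a
    refine ha1 (Subtype.ext ?_)
    have hy1 : y ≠ 1 := by rintro rfl; exact ha1 (Subtype.ext (map_one _))
    have he := small x y (show α _ = 1 by rw [show fibreFst α β (x : fibre α β) = 1 from hx, map_one]) ha hx1 hy1
    exact he ▸ hx
  have hinj2 : Function.Injective ((fibreSnd α β).comp D.subtype) := by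
    rw [injective_iff_map_eq_one]
    intro x hx
    by_contra hx1
    haveI : Nontrivial β.ker := by rw [← Finite.one_lt_card_iff_nontrivial, hB2]; omega
    obtain ⟨⟨b, hb⟩, hb1⟩ := exists_ne (1 : β.ker)
    obtain ⟨y, rfl⟩ := hsur2 b
    refine hb1 (Subtype.ext ?_)
    have hy1 : y ≠ 1 := by rintro rfl; exact hb1 (Subtype.ext (map_one _))
    have hk : ∀ z : D, fibreSnd α β (z : fibre α β) ∈ β.ker → (z : fibre α β) ∈ σ.ker := fun z hz =>
      (mem_fibre.1 (z : fibre α β).2).trans hz
    have he := small x y (hk x (by rw [show fibreSnd α β (x : fibre α β) = 1 from hx]; exact one_mem _))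
      (hk y hb) hx1 hy1
    exact he ▸ hx
  exact ⟨(MulEquiv.ofBijective _ ⟨hinj1, hsur1⟩).symm.trans (MulEquiv.ofBijective _ ⟨hinj2, hsur2⟩)⟩

theorem hasSchurMultiplier_congr' {G' H : Type u} [Group G'] [Group H] {A : Type v} [CommGroup A] (e : G' ≃* H)
    (hG : Cfsg.HasSchurMultiplier G' A) : Cfsg.HasSchurMultiplier H A := by
  obtain ⟨⟨Γ, i1, i2, σ, hσ, ⟨k⟩⟩, h2⟩ := hG
  have hker : (e.toMonoidHom.comp σ).ker = σ.ker := by ext x; simp
  refine ⟨⟨Γ, i1, i2, e.toMonoidHom.comp σ,
    ⟨e.surjective.comp hσ.1, by rw [hker]; exact hσ.2.1, by rw [hker]; exact hσ.2.2⟩,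
    ⟨(MulEquiv.subgroupCongr hker).trans k⟩⟩, ?_⟩
  intro Δ _ _ τ hτ
  have hker' : (e.symm.toMonoidHom.comp τ).ker = τ.ker := by ext x; simp
  obtain ⟨π, hπ⟩ := h2 Δ (e.symm.toMonoidHom.comp τ)
    ⟨e.symm.surjective.comp hτ.1, by rw [hker']; exact hτ.2.1, by rw [hker']; exact hτ.2.2⟩
  exact ⟨(MulEquiv.subgroupCongr hker').toMonoidHom.comp π, (MulEquiv.subgroupCongr hker').surjective.comp hπ⟩

variable {F : Type} [Field F] [Fintype F]

theorem exists_cyclic_multiplier_PSL (hodd : Odd (Fintype.card F)) (h3 : 3 < Fintype.card F) :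
    ∃ n, Cfsg.HasCyclicSchurMultiplier (Matrix.ProjectiveSpecialLinearGroup (Fin 2) F) n := by
  by_cases h9 : Fintype.card F = 9
  · obtain ⟨e⟩ := S0254.result h9
    exact ⟨6, hasSchurMultiplier_congr' e.symm (S2116.result 6 (Or.inl rfl))⟩
  · refine ⟨_, S2086.result (F := F) rfl 2 le_rfl (fun _ => by omega) ?_⟩
    obtain ⟨k, hk⟩ := hodd
    simp only [Set.mem_insert_iff, Set.mem_singleton_iff, Prod.mk.injEq]
    omega

/-- A perfect double cover of `PSL₂(F)` is `SL₂(F)`. -/
theorem nonempty_equiv_SL (hodd : Odd (Fintype.card F)) (h3 : 3 < Fintype.card F) {A : Type v} [Group A]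
    [Finite A] (α : A →* Matrix.ProjectiveSpecialLinearGroup (Fin 2) F) (hα : Function.Surjective α)
    (hAz : α.ker ≤ center A) (hA : _root_.commutator A = ⊤) (hA2 : Nat.card α.ker = 2) :
    Nonempty (A ≃* Matrix.SpecialLinearGroup (Fin 2) F) := by
  obtain ⟨n, hn⟩ := exists_cyclic_multiplier_PSL hodd h3
  refine nonempty_equiv_of_double_covers hn α (QuotientGroup.mk' _) hα (QuotientGroup.mk'_surjective _) hAz
    ?_ hA ?_ hA2 ?_
  · rw [QuotientGroup.ker_mk']
  · exact GL.SL_commutator_eq_top 2 le_rfl fun _ =>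
      GL.exists_sq_ne_one_of_four_le_card (by rw [Nat.card_eq_fintype_card]; omega)
  · rw [QuotientGroup.ker_mk', GL.card_center_SL, Fintype.card_fin]
    obtain ⟨k, hk⟩ := hodd
    exact Nat.gcd_eq_left ⟨k, by omega⟩

end Cfsg.Agent.GWRankOne
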