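import Cfsg.Agent.Lib.GWRankOne.Main
import Cfsg.Agent.Lib.WRFusion.Centralizer
import Cfsg.Agent.S2602

/-!
# The derived subgroup (the statement of S1240)

`commutator_equiv_SL2`: under the hypotheses of `exists_SL2` the derived subgroup is the normal `SL₂`.
`centralizer_commutator`: the statement of S1240 from `GW.PartTwo`.
-/

set_option autoImplicit false
set_option linter.style.haveILetI false

namespace Cfsg.Agent.GWRankOne

open Subgroup
open scoped commutatorElement

universe u v

local notation "SL23" => Matrix.SpecialLinearGroup (Fin 2) (ZMod 3)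

theorem sl23_mul : ∀ a b : SL23, a ^ 4 = 1 → b ^ 4 = 1 → (a * b) ^ 4 = 1 := by decide +kernel

theorem sl23_eight : ∀ a : SL23, a ^ 8 = 1 → a ^ 4 = 1 := by decide +kernel

theorem sl23_orbit : ∀ y d : SL23, y ^ 4 = 1 → y ^ 2 ≠ 1 → d ^ 3 = 1 → d ≠ 1 →
    (d * y * d⁻¹) * (d * d * y * (d * d)⁻¹) ≠ (d * d * y * (d * d)⁻¹) * (d * y * d⁻¹) := by decide +kernel

theorem sl23_comm_sq : ∀ a b : SL23, a ^ 4 = 1 → b ^ 4 = 1 → ⁅a, b⁆ ^ 2 = 1 := by decide +kernel

theorem sl23_is_comm : ∀ q : SL23, q ^ 4 = 1 → ∃ a b : SL23, ⁅a, b⁆ = q := by decide +kernel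

theorem sl23_cosets : ∀ u x : SL23, u ^ 4 ≠ 1 → ∃ i : Fin 3, (x * (u ^ i.val)⁻¹) ^ 4 = 1 := by decide +kernel

theorem sl23_three : ∃ d : SL23, d ^ 3 = 1 ∧ d ≠ 1 := by decide +kernel

theorem quat_pair (k : ℕ) (hk : 1 ≤ k) :
    ∃ u v : QuaternionGroup (2 ^ k), u ^ 2 ≠ 1 ∧ v ^ 2 ≠ 1 ∧ u ^ 4 = 1 ∧ v ^ 4 = 1 ∧ u * v ≠ v * u := by
  haveI : NeZero (2 ^ k) := ⟨by positivity⟩
  have h2n : ((2 ^ k : ℕ) : ZMod (2 * 2 ^ k)) ≠ 0 := by
    rw [Ne, ZMod.natCast_eq_zero_iff]
    intro h
    have := Nat.le_of_dvd (by positivity) h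
    have : 0 < 2 ^ k := by positivity
    omega
  refine ⟨.xa 0, .xa 1, ?_, ?_, ?_, ?_, fun h => ?_⟩
  · rw [pow_two, QuaternionGroup.xa_mul_xa, QuaternionGroup.one_def, Ne, QuaternionGroup.a.injEq]
    simpa using h2n
  · rw [pow_two, QuaternionGroup.xa_mul_xa, QuaternionGroup.one_def, Ne, QuaternionGroup.a.injEq]
    simpa using h2n
  · rw [← QuaternionGroup.orderOf_xa (n := 2 ^ k) 0]; exact pow_orderOf_eq_one _
  · rw [← QuaternionGroup.orderOf_xa (n := 2 ^ k) 1]; exact pow_orderOf_eq_one _
  · rw [QuaternionGroup.xa_mul_xa, QuaternionGroup.xa_mul_xa, QuaternionGroup.a.injEq] at h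
    have h2' : ((2 : ℕ) : ZMod (2 * 2 ^ k)) = 0 := by push_cast; linear_combination h
    rw [ZMod.natCast_eq_zero_iff] at h2'
    have := Nat.le_of_dvd two_pos h2'
    have := Nat.pow_le_pow_right two_pos hk
    omega

theorem out_comm {F : Type} [Field F] [Fintype F] (h4 : 4 ≤ Fintype.card F)
    (a b : Cfsg.Out (Matrix.ProjectiveSpecialLinearGroup (Fin 2) F)) : a * b = b * a := by
  haveI := CharP.exists F
  obtain ⟨p, hp⟩ := CharP.exists F
  obtain ⟨n, hprime, hcard⟩ := FiniteField.card F p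
  haveI : Fact p.Prime := ⟨hprime⟩
  obtain ⟨φ, hφ, -, hker⟩ := S2602.result (F := F) (p := p) (f := n) n.pos hcard (hcard ▸ h4)
  have hcen : φ.ker ≤ center (Cfsg.Out (Matrix.ProjectiveSpecialLinearGroup (Fin 2) F)) := by
    intro x hx
    refine mem_center_iff.2 fun g => ?_
    by_cases hx1 : x = 1
    · simp [hx1]
    have hy : g * x * g⁻¹ ∈ φ.ker := (MonoidHom.normal_ker φ).conj_mem x hx g
    by_cases hgx : g * x * g⁻¹ = x
    · exact mul_inv_eq_iff_eq_mul.1 hgx
    exfalso
    have hfin : Finite φ.ker := Nat.finite_of_card_ne_zero (by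
      rw [hker]; exact (Nat.gcd_pos_of_pos_left _ two_pos).ne')
    have h3 : 3 ≤ Nat.card φ.ker := by
      haveI := Fintype.ofFinite φ.ker
      classical
      rw [Nat.card_eq_fintype_card]
      refine le_trans (le_of_eq ?_) (Finset.card_le_univ ({1, ⟨x, hx⟩, ⟨_, hy⟩} : Finset φ.ker))
      symm
      refine Finset.card_eq_three.2 ⟨1, ⟨x, hx⟩, ⟨_, hy⟩, ?_, ?_, ?_, rfl⟩
      · exact fun h => hx1 (congrArg Subtype.val h).symm
      · exact fun h => hx1 (conj_eq_one_iff.1 (congrArg Subtype.val h).symm)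
      · exact fun h => hgx (congrArg Subtype.val h).symm
    have := Nat.le_of_dvd two_pos (Nat.gcd_dvd_left 2 (p ^ (n : ℕ) - 1))
    omega
  exact commutative_of_cyclic_center_quotient φ hcen a b

theorem mul_inv_cancel_of_eq {M : Type*} [Group M] (a b c : M) (h : a * b * a⁻¹ = c) : a * b = c * a := by
  rw [← h, inv_mul_cancel_right]

variable {H : Type u} [Group H] [Finite H]

theorem mk_commute_of_shape {S : Sylow 2 H} {A : Subgroup (S : Subgroup H)} {c : ↥(S : Subgroup H)}
    (hA : Shape A c) (K : Subgroup H) [K.Normal] {a : ℕ} (hK : K.index = 2 ^ a)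
    (y : ↥(S : Subgroup H)) (hyK : (y : H) ∈ K) (hyA : y ∉ A) (g h : H ⧸ K) : g * h = h * g := by
  haveI : Fact (Nat.Prime 2) := ⟨Nat.prime_two⟩
  have hsup : (S : Subgroup H) ⊔ K = ⊤ := by
    rw [← Subgroup.index_eq_one]
    refine Nat.eq_one_of_dvd_coprimes ?_ (Subgroup.index_dvd_of_le le_sup_left)
      (show _ ∣ 2 ^ a by rw [← hK]; exact Subgroup.index_dvd_of_le le_sup_right)
    exact ((Nat.prime_two.coprime_iff_not_dvd).2 S.not_dvd_index).symm.pow_right a
  have key : ∀ g : H ⧸ K, ∃ b ∈ A, (QuotientGroup.mk' K) (b : H) = g := by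
    intro g
    obtain ⟨x, rfl⟩ := QuotientGroup.mk'_surjective K g
    obtain ⟨s, hs, k, hk, rfl⟩ := mem_sup_of_normal_right.1 (hsup ▸ mem_top x : x ∈ (S : Subgroup H) ⊔ K)
    rw [map_mul, show QuotientGroup.mk' K k = 1 from (QuotientGroup.eq_one_iff k).2 hk, mul_one]
    by_cases hsA : (⟨s, hs⟩ : ↥(S : Subgroup H)) ∈ A
    · exact ⟨_, hsA, rfl⟩
    · refine ⟨⟨s, hs⟩ * y, (Subgroup.mul_mem_iff_of_index_two hA.index).2
        ⟨fun hh => absurd hh hsA, fun hh => absurd hh hyA⟩, ?_⟩
      rw [Subgroup.coe_mul, map_mul, show QuotientGroup.mk' K (y : H) = 1 from (QuotientGroup.eq_one_iff _).2 hyK,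
        mul_one]
  obtain ⟨b, hb, rfl⟩ := key g
  obtain ⟨b', hb', rfl⟩ := key h
  rw [← map_mul, ← map_mul, ← Subgroup.coe_mul, ← Subgroup.coe_mul, hA.comm b hb b' hb']

/-- The derived subgroup is the normal `SL₂`. -/
theorem commutator_equiv_SL2 (h2 : GW.PartTwo.{u}) (S : Sylow 2 H)
    (hS : Cfsg.IsQuasiDihedral (S : Subgroup H) ∨ Cfsg.IsWreathed (S : Subgroup H)) (hO : Cfsg.oddCore H = ⊥)
    (K : Subgroup H) [K.Normal] {a : ℕ} (hK : K.index = 2 ^ a) (hK2 : ∀ M : Subgroup ↥K, M.index ≠ 2)
    (hKq : ∀ P : Sylow 2 ↥K, ∃ m : ℕ, 1 ≤ m ∧ Nonempty ((P : Subgroup ↥K) ≃* QuaternionGroup (2 ^ m))) :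
    ∃ (F : Type) (_ : Field F) (_ : Fintype F), Odd (Fintype.card F) ∧
      Nonempty (commutator H ≃* Matrix.SpecialLinearGroup (Fin 2) F) := by
  classical
  haveI : Fact (Nat.Prime 2) := ⟨Nat.prime_two⟩
  obtain ⟨L, hLn, hcase, ⟨F, iF, iF', hodd, ⟨eL⟩⟩, -⟩ := exists_SL2 h2 S hS hO K hK hK2 hKq
  haveI := hLn
  suffices hLH : commutator H = L from
    ⟨F, iF, iF', hodd, ⟨(MulEquiv.subgroupCongr hLH).trans eL⟩⟩
  obtain ⟨A, c, hA⟩ := exists_shape hS
  haveI hAn : A.Normal := Subgroup.normal_of_index_eq_two hA.index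
  obtain ⟨T, hT⟩ := SmithTyrer.exists_sylow_inf_normal S K
  obtain ⟨m, hm, ⟨eT⟩⟩ := hKq T
  let toS : ↥(T : Subgroup K) → ↥(S : Subgroup H) := fun t => ⟨((t : K) : H), (hT.le t.2).1⟩
  obtain ⟨y, hyK, hyA⟩ : ∃ y : ↥(S : Subgroup H), (y : H) ∈ K ∧ y ∉ A := by
    by_contra hh
    push Not at hh
    obtain ⟨u, v, -, -, -, -, huv⟩ := quat_pair m hm
    apply huv
    apply eT.symm.injective
    rw [map_mul, map_mul]
    exact Subtype.ext (Subtype.ext (congrArg (fun s : ↥(S : Subgroup H) => (s : H))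
      (hA.comm _ (hh (toS (eT.symm u)) (eT.symm u : K).2) _ (hh (toS (eT.symm v)) (eT.symm v : K).2)) :))
  have hHK : commutator H ≤ K := by
    rw [_root_.commutator_def, commutator_le]
    intro g _ h _
    rw [← QuotientGroup.eq_one_iff]
    show QuotientGroup.mk' K ⁅g, h⁆ = 1
    rw [map_commutatorElement, commutatorElement_eq_one_iff_mul_comm]
    exact mk_commute_of_shape hA K hK y hyK hyA _ _
  rcases hcase with ⟨rfl, ⟨e⟩⟩ | hperf
  · -- `K = SL(2,3)`
    refine le_antisymm hHK ?_
    let Q0 : Subgroup L :=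
      { carrier := {x | x ^ 4 = 1}
        one_mem' := one_pow 4
        mul_mem' := fun {a b} ha hb => by
          apply e.injective
          rw [map_pow, map_one, map_mul]
          exact sl23_mul _ _ (by rw [← map_pow, show a ^ 4 = 1 from ha, map_one])
            (by rw [← map_pow, show b ^ 4 = 1 from hb, map_one])
        inv_mem' := fun {a} ha => by
          show a⁻¹ ^ 4 = 1
          rw [inv_pow, show a ^ 4 = 1 from ha, inv_one] }
    haveI : Q0.Normal := ⟨fun x hx g => by
      show (g * x * g⁻¹) ^ 4 = 1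
      rw [conj_pow, show x ^ 4 = 1 from hx, mul_one, mul_inv_cancel]⟩
    have hQ0T : ∀ x : L, x ^ 4 = 1 → x ∈ (T : Subgroup L) := fun x hx =>
      IsPGroup.le_sylow_of_normal (N := Q0) (fun q => ⟨2, Subtype.ext (show (q : L) ^ 4 = 1 from q.2)⟩) T hx
    have hTQ0 : ∀ x : L, x ∈ (T : Subgroup L) → x ^ 4 = 1 := fun x hx => by
      obtain ⟨k, hk⟩ := IsPGroup.iff_orderOf.1 T.2 ⟨x, hx⟩
      rw [Subgroup.orderOf_mk] at hk
      apply e.injective
      rw [map_pow, map_one]
      refine sl23_eight _ ?_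
      rw [← map_pow]
      suffices x ^ 8 = 1 by rw [this, map_one]
      have h24 : 2 ^ k ∣ 24 := by
        rw [← hk]
        refine (orderOf_dvd_natCard x).trans (dvd_of_eq ?_)
        rw [Nat.card_congr e.toEquiv, Nat.card_eq_fintype_card]
        decide +kernel
      have h8 : 2 ^ k ∣ 8 := (Nat.Coprime.pow_left k (by norm_num : Nat.Coprime 2 3)).dvd_of_dvd_mul_right
        (by simpa using h24)
      exact orderOf_dvd_iff_pow_eq_one.1 (hk ▸ h8)
    -- a commutator outside `Q0`
    obtain ⟨u, hu, hu4⟩ : ∃ u : L, (u : H) ∈ commutator H ∧ u ^ 4 ≠ 1 := by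
      by_contra hh
      push Not at hh
      set g := ⁅c, y⁆ with hg
      have hgA : g ∈ A := by
        rw [hg, commutatorElement_def, mul_assoc, mul_assoc, ← mul_assoc y]
        exact mul_mem hA.mem (hAn.conj_mem _ (inv_mem hA.mem) y)
      have hgK : (g : H) ∈ L := by
        rw [hg, commutatorElement_def]
        exact mul_mem (hLn.conj_mem _ hyK _) (inv_mem hyK)
      set gl : L := ⟨(g : H), hgK⟩
      have hgl4 : gl ^ 4 = 1 := hTQ0 _ (hT.ge ⟨g.2, hgK⟩)
      have hgl2 : gl ^ 2 ≠ 1 := fun h => hA.big_sq y hyA (Subtype.ext (congrArg Subtype.val h :))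
      obtain ⟨d₀, hd3, hd1⟩ := sl23_three
      set d : L := e.symm d₀ with hd
      have hd3' : d ^ 3 = 1 := by rw [hd, ← map_pow, hd3, map_one]
      have hd1' : d ≠ 1 := fun h => hd1 (e.symm.injective (h.trans (map_one _).symm))
      have hin : ∀ δ : L, δ * gl * δ⁻¹ ∈ (T : Subgroup L) := fun δ =>
        hQ0T _ (by rw [conj_pow, hgl4, mul_one, mul_inv_cancel])
      have hAall : ∀ δ : L, toS ⟨_, hin δ⟩ ∈ A := by
        intro δ
        by_contra hnA
        -- `c` acts on `δ` as an element of `Q0`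
        set q : L := ⟨⁅(c : H), (δ : H)⁆, by
          rw [commutatorElement_def]; exact mul_mem (hLn.conj_mem _ δ.2 _) (inv_mem δ.2)⟩
        have hq : q ^ 4 = 1 := hh q (commutator_mem_commutator (mem_top _) (mem_top _))
        apply hA.big_sq _ hnA
        have hcg : (c : H) * (g : H) * (c : H)⁻¹ = (g : H) :=
          congrArg (fun s : ↥(S : Subgroup H) => (s : H))
            (show c * g * c⁻¹ = g by rw [hA.comm c hA.mem g hgA, mul_inv_cancel_right])
        have hc' : (c : H) * ((δ : H) * (g : H) * (δ : H)⁻¹) * (c : H)⁻¹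
            = (⁅(c : H), (δ : H)⁆) * ((δ : H) * (g : H) * (δ : H)⁻¹) * (⁅(c : H), (δ : H)⁆)⁻¹ := by
          have hcg' : (c : H)⁻¹ * (g : H) * (c : H) = (g : H) := by
            conv_lhs => rw [← hcg]
            group
          rw [commutatorElement_def]
          calc (c : H) * ((δ : H) * (g : H) * (δ : H)⁻¹) * (c : H)⁻¹
              = (c : H) * (δ : H) * ((c : H)⁻¹ * (c : H)) * (g : H) * ((c : H)⁻¹ * (c : H)) * (δ : H)⁻¹ * (c : H)⁻¹ := by
                group
            _ = (c : H) * (δ : H) * (c : H)⁻¹ * ((c : H) * (g : H) * (c : H)⁻¹) * (c : H) * (δ : H)⁻¹ * (c : H)⁻¹ := by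
                group
            _ = (c : H) * (δ : H) * (c : H)⁻¹ * (g : H) * (c : H) * (δ : H)⁻¹ * (c : H)⁻¹ := by rw [hcg]
            _ = _ := by group
        apply Subtype.ext
        show ((c : H) * ((δ : H) * (g : H) * (δ : H)⁻¹) * (c : H)⁻¹ * ((δ : H) * (g : H) * (δ : H)⁻¹)⁻¹) ^ 2 = 1
        rw [hc']
        have h1 : ⁅q, δ * gl * δ⁻¹⁆ ^ 2 = 1 := by
          apply e.injective
          rw [map_pow, map_commutatorElement, map_one]
          exact sl23_comm_sq _ _ (by rw [← map_pow, hq, map_one])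
            (by rw [← map_pow, conj_pow, hgl4, mul_one, mul_inv_cancel, map_one])
        exact congrArg Subtype.val h1
      refine sl23_orbit (e gl) (e d) (by rw [← map_pow, hgl4, map_one])
        (fun h => hgl2 (e.injective (by rw [map_pow, h, map_one])))
        (by rw [← map_pow, hd3', map_one]) (fun h => hd1' (e.injective (h.trans (map_one e).symm))) ?_
      have h := hA.comm _ (hAall d) _ (hAall (d * d))
      have h' : (d * gl * d⁻¹) * (d * d * gl * (d * d)⁻¹) = (d * d * gl * (d * d)⁻¹) * (d * gl * d⁻¹) :=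
        Subtype.ext (congrArg (fun s : ↥(S : Subgroup H) => (s : H)) h :)
      simpa using congrArg e h'
    intro x hx
    set xl : L := ⟨x, hx⟩
    obtain ⟨i, hi⟩ := sl23_cosets (e u) (e xl) (fun h => hu4 (e.injective (by rw [map_pow, h, map_one])))
    obtain ⟨p, r, hpr⟩ := sl23_is_comm _ hi
    have hx' : xl = ⁅e.symm p, e.symm r⁆ * u ^ i.val := by
      apply e.injective
      rw [map_mul, map_commutatorElement, MulEquiv.apply_symm_apply, MulEquiv.apply_symm_apply, hpr, map_pow,
        inv_mul_cancel_right]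
    have hx'' : x = ((⁅e.symm p, e.symm r⁆ : L) : H) * (u : H) ^ i.val := congrArg Subtype.val hx'
    rw [hx'']
    refine mul_mem ?_ (pow_mem hu _)
    exact commutator_mem_commutator (mem_top _) (mem_top _)
  -- perfect case
  haveI := hperf
  have hLsolv : ¬ Group.IsSolvable L := fun hs => by
    haveI := GW.subsingleton_of_isPerfect (Y := L) hs
    have hc := Nat.card_congr eL.toEquiv
    rw [Nat.card_of_subsingleton (1 : L)] at hc
    haveI : Subsingleton (Matrix.SpecialLinearGroup (Fin 2) F) := eL.symm.toEquiv.subsingleton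
    have h := congrArg (fun M : Matrix.SpecialLinearGroup (Fin 2) F => (M : Matrix (Fin 2) (Fin 2) F) 0 1)
      (Subsingleton.elim (Matrix.SpecialLinearGroup.transvection (show (0 : Fin 2) ≠ 1 by decide) (1 : F)) 1)
    simp [Matrix.SpecialLinearGroup.transvection, Matrix.transvection] at h
  have h4 : 4 ≤ Fintype.card F := by
    by_contra h4
    refine hLsolv (CharInt.isSolvable_of_card_eq (a := 3) (b := 1) Nat.prime_two Nat.prime_three ?_)
    have hq : Fintype.card F = 3 := by
      have := Fintype.one_lt_card (α := F)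
      obtain ⟨k, hk⟩ := hodd
      omega
    have := GL.card_SL_mul (F := F) 2 (by norm_num)
    rw [hq, Fin.prod_univ_two] at this
    rw [Nat.card_congr eL.toEquiv]
    norm_num at this ⊢
    omega
  have hLH : L ≤ commutator H := by
    intro x hx
    have h1 := mem_map_of_mem L.subtype
      (show (⟨x, hx⟩ : L) ∈ commutator L by rw [Group.IsPerfect.commutator_eq_top]; exact mem_top _)
    rw [map_subtype_commutator] at h1
    exact (commutator_mono le_top le_top) h1
  refine le_antisymm ?_ hLH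
  set C := centralizer (L : Set H) with hC
  haveI : C.Normal := normal_centralizer
  have hLK : L ≤ K := hLH.trans hHK
  -- the outer automorphisms are commutative
  have hout : commutator H ≤ L ⊔ C := by
    let θ : H →* MulAut (L ⧸ center L) :=
      { toFun := fun h => QuotientGroup.congr (center L) (center L) (MulAut.conjNormal h)
          (Subgroup.characteristic_iff_map_eq.1 inferInstance _)
        map_one' := by
          apply MulEquiv.ext
          intro x
          obtain ⟨l, rfl⟩ := QuotientGroup.mk'_surjective (center L) x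
          rw [map_one]
          rfl
        map_mul' := fun g h => by
          apply MulEquiv.ext
          intro x
          obtain ⟨l, rfl⟩ := QuotientGroup.mk'_surjective (center L) x
          rw [map_mul]
          rfl }
    have hmap : (center L).map eL.toMonoidHom = center (Matrix.SpecialLinearGroup (Fin 2) F) := by
      ext z
      constructor
      · rintro ⟨w, hw, rfl⟩
        exact mem_center_iff.2 fun g => by
          have := congrArg eL (mem_center_iff.1 hw (eL.symm g))
          simpa using this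
      · intro hz
        refine ⟨eL.symm z, mem_center_iff.2 fun g => eL.injective (by simpa using mem_center_iff.1 hz (eL g)), ?_⟩
        simp
    let f : L ⧸ center L ≃* Matrix.ProjectiveSpecialLinearGroup (Fin 2) F :=
      QuotientGroup.congr _ _ eL hmap
    let ψ : H →* Cfsg.Out (Matrix.ProjectiveSpecialLinearGroup (Fin 2) F) :=
      (QuotientGroup.mk' _).comp ((MulAut.congr f).toMonoidHom.comp θ)
    intro x hx
    have hx1 : ψ x = 1 := by
      have hle : commutator H ≤ ψ.ker := by
        rw [_root_.commutator_def, commutator_le]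
        intro g _ h _
        rw [MonoidHom.mem_ker, map_commutatorElement, commutatorElement_eq_one_iff_mul_comm]
        exact out_comm h4 _ _
      exact hle hx
    have hx2 : (MulAut.congr f) (θ x) ∈ Cfsg.Inn (Matrix.ProjectiveSpecialLinearGroup (Fin 2) F) :=
      (QuotientGroup.eq_one_iff _).1 hx1
    obtain ⟨p, hp⟩ := hx2
    obtain ⟨l, hl⟩ := QuotientGroup.mk'_surjective (center L) (f.symm p)
    have hagree : ∀ w : L, QuotientGroup.mk' (center L) (MulAut.conjNormal x w) =
        QuotientGroup.mk' (center L) (l * w * l⁻¹) := by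
      intro w
      have := congrArg (fun φ : MulAut _ => f.symm (φ (f (QuotientGroup.mk' (center L) w)))) hp
      simp only [MulAut.conj_apply, map_mul, map_inv, MulEquiv.symm_apply_apply] at this
      rw [← hl] at this
      have h' : (θ x) (QuotientGroup.mk' (center L) w) =
          QuotientGroup.mk' (center L) l * QuotientGroup.mk' (center L) w * (QuotientGroup.mk' (center L) l)⁻¹ := by
        rw [this]
        simp [MulAut.congr]
      rw [map_mul, map_mul, map_inv, ← h']
      rfl
    have heq : ∀ w : L, MulAut.conjNormal x w = l * w * l⁻¹ := by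
      intro w
      have hle : commutator L ≤
          MonoidHom.eqLocus (MulAut.conjNormal x : MulAut L).toMonoidHom (MulAut.conj l).toMonoidHom := by
        rw [_root_.commutator_def, commutator_le]
        intro a _ b _
        show (MulAut.conjNormal x : MulAut L) ⁅a, b⁆ = (MulAut.conj l) ⁅a, b⁆
        rw [map_commutatorElement, map_commutatorElement]
        exact Schur.commutator_congr (σ := QuotientGroup.mk' (center L)) (by rw [QuotientGroup.ker_mk'])
          (hagree a) (hagree b)
      exact hle (by rw [Group.IsPerfect.commutator_eq_top]; exact mem_top w)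
    rw [show x = (l : H) * ((l : H)⁻¹ * x) by group]
    refine mul_mem (mem_sup_left l.2) (mem_sup_right (mem_centralizer_iff.2 fun w hw => ?_))
    have h1 : x * w * x⁻¹ = (l : H) * w * (l : H)⁻¹ := by
      simpa using congrArg Subtype.val (heq ⟨w, hw⟩)
    calc w * ((l : H)⁻¹ * x) = (l : H)⁻¹ * ((l : H) * w * (l : H)⁻¹) * x := by group
      _ = (l : H)⁻¹ * x * w := by rw [← h1]; group
  -- the centraliser meets `K` in `L`
  have hCK : K ⊓ C ≤ L := by
    obtain ⟨TL, hTL⟩ := SmithTyrer.exists_sylow_inf_normal S L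
    obtain ⟨k, hk, ⟨eR⟩⟩ := S0261.result hodd (Sylow.mapSurjective (f := eL.toMonoidHom) eL.surjective TL)
    set eTL : (TL : Subgroup L) ≃* QuaternionGroup (2 ^ k) :=
      ((TL : Subgroup L).equivMapOfInjective eL.toMonoidHom eL.injective).trans eR
    obtain ⟨q, hqS, hq2, huniq, -⟩ := QuaternionFactor.quat_facts hm eT
    have huniq' : ∀ x ∈ (S : Subgroup H), x ∈ K → x ^ 2 = 1 → x = 1 ∨ x = (q : H) := by
      intro x hxS hxK hx2
      rcases huniq ⟨x, hxK⟩ (hT.ge ⟨hxS, hxK⟩) (Subtype.ext (by simpa using hx2)) with h | h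
      · exact Or.inl (congrArg Subtype.val h)
      · exact Or.inr (congrArg Subtype.val h)
    -- elements of `C ⊓ S ⊓ K` square to one
    have hsq : ∀ t ∈ (S : Subgroup H), t ∈ K → t ∈ C → t ^ 2 = 1 := by
      intro t₀ ht₀S ht₀K ht₀C
      by_contra ht2
      obtain ⟨j, hj⟩ := IsPGroup.iff_orderOf.1 S.2 ⟨t₀, ht₀S⟩
      rw [Subgroup.orderOf_mk] at hj
      have hj2 : 2 ≤ j := by
        by_contra hlt
        refine ht2 (orderOf_dvd_iff_pow_eq_one.1 (hj ▸ ?_))
        exact (pow_dvd_pow 2 (show j ≤ 1 by omega)).trans (dvd_of_eq (pow_one 2))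
      obtain ⟨i, rfl⟩ : ∃ i, j = i + 2 := ⟨j - 2, by omega⟩
      set t := t₀ ^ (2 ^ i) with ht
      have ht4 : orderOf t = 4 := by
        rw [ht, orderOf_pow' _ (by positivity), hj, pow_add, Nat.gcd_eq_right (dvd_mul_right _ _),
          Nat.mul_div_cancel_left _ (by positivity)]
        norm_num
      obtain ⟨u, v, hu2, hv2, hu4, hv4, huv⟩ := quat_pair k hk
      have key : ∀ w : QuaternionGroup (2 ^ k), w ^ 2 ≠ 1 → w ^ 4 = 1 →
          (((eTL.symm w : (TL : Subgroup L)) : L) : H) = t ∨
            (((eTL.symm w : (TL : Subgroup L)) : L) : H) = t * (q : H) := by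
        intro w hw2 hw4
        set wh := (((eTL.symm w : (TL : Subgroup L)) : L) : H) with hwh
        have hwS : wh ∈ (S : Subgroup H) := (hTL.le (eTL.symm w).2).1
        have hwK : wh ∈ K := hLK (eTL.symm w : L).2
        have htS : t ∈ (S : Subgroup H) := pow_mem ht₀S _
        have htK : t ∈ K := pow_mem ht₀K _
        have hcomm : Commute t wh := (mem_centralizer_iff.1 (pow_mem ht₀C _) wh (eTL.symm w : L).2).symm
        have hne : ∀ i : ℕ, w ^ i ≠ 1 → wh ^ i ≠ 1 := fun i hwi h => hwi (eTL.symm.injective (by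
          rw [map_pow, map_one]; exact Subtype.ext (Subtype.ext (by simpa using h))))
        have hwh4 : wh ^ 4 = 1 := by
          have := congrArg (fun z : (TL : Subgroup L) => ((z : L) : H)) (show eTL.symm w ^ 4 = 1 by
            rw [← map_pow, hw4, map_one])
          simpa using this
        have e1 : wh ^ 2 = (q : H) := (huniq' _ (pow_mem hwS 2) (pow_mem hwK 2)
          (by rw [← pow_mul]; exact hwh4)).resolve_left (hne 2 hw2)
        have e2 : t ^ 2 = (q : H) := (huniq' _ (pow_mem htS 2) (pow_mem htK 2)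
          (by rw [← pow_mul, show (2 * 2 : ℕ) = 4 from rfl, ← ht4, pow_orderOf_eq_one])).resolve_left
          (fun h => by
            have := Nat.le_of_dvd two_pos (ht4 ▸ orderOf_dvd_of_pow_eq_one h : 4 ∣ 2)
            omega)
        rcases huniq' (t⁻¹ * wh) (mul_mem (inv_mem htS) hwS) (mul_mem (inv_mem htK) hwK)
            (by rw [hcomm.inv_left.mul_pow, inv_pow, e1, e2, inv_mul_cancel]) with h | h
        · exact Or.inl (inv_mul_eq_one.1 h).symm
        · exact Or.inr (inv_mul_eq_iff_eq_mul.1 h)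
      have htq : Commute t (q : H) := by
        have h4' : t ^ 4 = 1 := ht4 ▸ pow_orderOf_eq_one t
        have e2 : t ^ 2 = (q : H) := (huniq' _ (pow_mem (pow_mem ht₀S _) 2) (pow_mem (pow_mem ht₀K _) 2)
          (by rw [← pow_mul]; exact h4')).resolve_left
          (fun h => by
            have := Nat.le_of_dvd two_pos (ht4 ▸ orderOf_dvd_of_pow_eq_one h : 4 ∣ 2)
            omega)
        exact e2 ▸ (Commute.refl t).pow_right 2
      apply huv
      apply eTL.symm.injective
      rw [map_mul, map_mul]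
      refine Subtype.ext (Subtype.ext ?_)
      rw [Subgroup.coe_mul, Subgroup.coe_mul, Subgroup.coe_mul, Subgroup.coe_mul]
      have hc1 : Commute t (t * (q : H)) := (Commute.refl t).mul_right htq
      rcases key u hu2 hu4 with h | h <;> rcases key v hv2 hv4 with h' | h' <;> rw [h, h']
      · exact hc1.eq
      · exact hc1.eq.symm
    set M := K ⊓ C
    haveI : M.Normal := Subgroup.normal_inf_normal K C
    obtain ⟨TM, hTM⟩ := SmithTyrer.exists_sylow_inf_normal S M
    have hsmall : ∀ x : (TM : Subgroup M), ((x : M) : H) = 1 ∨ ((x : M) : H) = (q : H) := fun x =>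
      have h := hTM.le x.2
      huniq' _ h.1 h.2.1 (hsq _ h.1 h.2.1 h.2.2)
    have hcard : Nat.card (TM : Subgroup M) ≤ 2 := by
      refine (Nat.card_le_card_of_injective
        (fun x : (TM : Subgroup M) => if ((x : M) : H) = 1 then (0 : Fin 2) else 1) ?_).trans_eq (Nat.card_fin 2)
      intro a b hab
      simp only at hab
      rcases hsmall a with ha | ha <;> rcases hsmall b with hb | hb
      · exact Subtype.ext (Subtype.ext (ha.trans hb.symm))
      · by_cases hq1 : (q : H) = 1
        · exact Subtype.ext (Subtype.ext (ha.trans (hq1 ▸ hb).symm))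
        · simp [ha, hb, hq1] at hab
      · by_cases hq1 : (q : H) = 1
        · exact Subtype.ext (Subtype.ext ((hq1 ▸ ha : ((a : M) : H) = 1).trans hb.symm))
        · simp [ha, hb, hq1] at hab
      · exact Subtype.ext (Subtype.ext (ha.trans hb.symm))
    have hcyc : IsCyclic (TM : Subgroup M) := by
      interval_cases hh : Nat.card (TM : Subgroup M)
      · exact absurd hh Nat.card_pos.ne'
      · haveI : Subsingleton (TM : Subgroup M) := (Nat.card_eq_one_iff_unique.1 hh).1
        infer_instance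
      · exact isCyclic_of_prime_card hh
    have hMp := GW.isPGroup_of_cyclic_two TM hcyc (PCore.pPrimeCore_eq_bot_of_normal M hO)
    have hMS : M ≤ (S : Subgroup H) := hMp.le_sylow_of_normal S
    intro x hx
    rcases huniq' x (hMS hx) hx.1 (hsq x (hMS hx) hx.1 hx.2) with h | h
    · rw [h]; exact one_mem _
    · -- the involution lies in `L`
      obtain ⟨u, -, hu2, -, hu4, -, -⟩ := quat_pair k hk
      set wh := (((eTL.symm u : (TL : Subgroup L)) : L) : H)
      have hwh4 : wh ^ 4 = 1 := by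
        have := congrArg (fun z : (TL : Subgroup L) => ((z : L) : H)) (show eTL.symm u ^ 4 = 1 by
          rw [← map_pow, hu4, map_one])
        simpa using this
      have e1 : wh ^ 2 = (q : H) := (huniq' _ (pow_mem (hTL.le (eTL.symm u).2).1 2)
          (pow_mem (hLK (eTL.symm u : L).2) 2) (by rw [← pow_mul]; exact hwh4)).resolve_left
        (fun h => hu2 (eTL.symm.injective (by
          rw [map_pow, map_one]; exact Subtype.ext (Subtype.ext (by simpa using h)))))
      rw [h, ← e1]
      exact pow_mem (eTL.symm u : L).2 2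
  intro x hx
  obtain ⟨l, hl, cc, hcc, rfl⟩ := mem_sup_of_normal_left.1 (hout hx)
  refine mul_mem hl (hCK ⟨?_, hcc⟩)
  have := mul_mem (inv_mem (hLK hl)) (hHK hx)
  rwa [inv_mul_cancel_left] at this

theorem qd_or_wr_congr {X : Type u} [Group X] {Y : Type v} [Group Y] (e : X ≃* Y)
    (h : Cfsg.IsQuasiDihedral X ∨ Cfsg.IsWreathed X) : Cfsg.IsQuasiDihedral Y ∨ Cfsg.IsWreathed Y := by
  rcases h with ⟨n, hn, hc, x, y, hx, hy, hxy⟩ | ⟨n, hn, hc, x, y, z, hx, hxy, hd, hz, hzxy⟩
  · refine Or.inl ⟨n, hn, by rw [← Nat.card_congr e.toEquiv, hc], e x, e y, by rw [MulEquiv.orderOf_eq, hx],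
      by rw [MulEquiv.orderOf_eq, hy], by rw [← map_inv, ← map_mul, ← map_mul, hxy, map_pow]⟩
  · refine Or.inr ⟨n, hn, by rw [← Nat.card_congr e.toEquiv, hc], e x, e y, e z, by rw [MulEquiv.orderOf_eq, hx],
      by rw [← map_mul, hxy, map_mul], ?_, by rw [MulEquiv.orderOf_eq, hz],
      by rw [← map_inv, ← map_mul, ← map_mul, hzxy]⟩
    rw [show e x = e.toMonoidHom x from rfl, show e y = e.toMonoidHom y from rfl,
      ← MonoidHom.map_zpowers e.toMonoidHom x, ← MonoidHom.map_zpowers e.toMonoidHom y,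
      ← Subgroup.map_inf _ _ _ e.injective, hd, Subgroup.map_bot]

theorem sylow_map_equiv {X : Type u} [Group X] [Finite X] {Y : Type v} [Group Y] (f : X →* Y)
    (hf : Function.Surjective f) (hker : Odd (Nat.card f.ker)) (T : Sylow 2 X) :
    Nonempty ((T : Subgroup X) ≃* (T.mapSurjective hf : Subgroup Y)) := by
  haveI : Fact (Nat.Prime 2) := ⟨Nat.prime_two⟩
  have hinj : Function.Injective (f.comp (T : Subgroup X).subtype) := by
    rw [injective_iff_map_eq_one]
    intro x hx
    obtain ⟨k, hk⟩ := IsPGroup.iff_orderOf.1 T.2 x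
    refine orderOf_eq_one_iff.1 (Nat.eq_one_of_dvd_coprimes ((Nat.coprime_two_left.2 hker).pow_left k)
      (dvd_of_eq hk) ?_)
    have := Subgroup.orderOf_dvd_natCard f.ker (show (x : X) ∈ f.ker from hx)
    rwa [Subgroup.orderOf_coe] at this
  exact ⟨(MonoidHom.ofInjective hinj).trans (MulEquiv.subgroupCongr (by
    rw [MonoidHom.range_comp, range_subtype, Sylow.coe_mapSurjective]))⟩

/-- The statement of S1240. -/
theorem centralizer_commutator (h2 : GW.PartTwo.{u}) {G : Type u} [Group G] [Finite G] (S : Sylow 2 G)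
    (hS : Cfsg.IsQuasiDihedral (S : Subgroup G) ∨ Cfsg.IsWreathed (S : Subgroup G))
    (hG : ∀ H : Subgroup G, H.index ≠ 2) (t : G) (ht : orderOf t = 2) :
    ∃ (F : Type) (_ : Field F) (_ : Fintype F), Odd (Fintype.card F) ∧
      Nonempty (↥(commutator (↥(Subgroup.centralizer ({t} : Set G)) ⧸
        Cfsg.oddCore ↥(Subgroup.centralizer ({t} : Set G)))) ≃* Matrix.SpecialLinearGroup (Fin 2) F) := by
  haveI : Fact (Nat.Prime 2) := ⟨Nat.prime_two⟩
  set C := Subgroup.centralizer ({t} : Set G) with hC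
  obtain ⟨S', hS', htS, hle⟩ := WRFusion.exists_sylow_central (WRFusion.qdwr_of_hyp hS) hG ht
  obtain ⟨⟨K, hKn, ⟨a, ha⟩, hK2, hKq⟩, -⟩ := WRFusion.centralizerShape hS' hG ht htS hle
  haveI := hKn
  set O := Cfsg.oddCore C
  set π := QuotientGroup.mk' O with hπ
  have hπs := QuotientGroup.mk'_surjective O
  have hodd : Odd (Nat.card π.ker) := by rw [hπ, QuotientGroup.ker_mk']; exact PCore.odd_card_oddCore
  set R := (S'.subtype hle).mapSurjective hπs
  have hR : Cfsg.IsQuasiDihedral (R : Subgroup (C ⧸ O)) ∨ Cfsg.IsWreathed (R : Subgroup (C ⧸ O)) := by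
    obtain ⟨e⟩ := sylow_map_equiv π hπs hodd (S'.subtype hle)
    refine qd_or_wr_congr (((Sylow.equiv S S').trans ?_).trans e) hS
    exact ((MulEquiv.subgroupCongr (show ((S'.subtype hle : Sylow 2 C) : Subgroup C) = (S' : Subgroup G).subgroupOf C
      from Sylow.coe_subtype _ _)).trans (Subgroup.subgroupOfEquivOfLe hle)).symm
  haveI : (K.map π).Normal := Subgroup.Normal.map hKn π hπs
  obtain ⟨b, -, hb⟩ := (Nat.dvd_prime_pow Nat.prime_two).1 (ha ▸ Subgroup.index_map_dvd K hπs)
  let φ : K →* K.map π := π.subgroupMap K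
  have hφs : Function.Surjective φ := π.subgroupMap_surjective K
  refine commutator_equiv_SL2 h2 R hR PCore.pPrimeCore_quotient_self_eq_bot (K.map π) hb (fun M hM => ?_) fun P => ?_
  · exact hK2 (M.comap φ) (by rw [index_comap_of_surjective _ hφs, hM])
  · obtain ⟨T⟩ : Nonempty (Sylow 2 K) := inferInstance
    obtain ⟨m, hm, ⟨e⟩⟩ := hKq T
    have hk : Odd (Nat.card φ.ker) := by
      refine hodd.of_dvd_nat ?_
      have : φ.ker.map K.subtype ≤ π.ker := by
        rintro _ ⟨x, hx, rfl⟩
        exact congrArg Subtype.val hx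
      rw [← Subgroup.card_map_of_injective K.subtype_injective]
      exact Subgroup.card_dvd_of_le this
    obtain ⟨e'⟩ := sylow_map_equiv φ hφs hk T
    exact ⟨m, hm, ⟨((Sylow.equiv P (T.mapSurjective hφs)).trans e'.symm).trans e⟩⟩

end Cfsg.Agent.GWRankOne
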