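import Cfsg.Agent.Lib.GWRankOne.Pieces
import Cfsg.Agent.Lib.GL.Simple

/-!
# A normal `SL(2, q)` under a quasi-dihedral or wreathed Sylow 2-subgroup (the statement of S1216)

`exists_unique_SL2`: from `GW.PartTwo`.
-/

set_option autoImplicit false
set_option linter.style.haveILetI false

namespace Cfsg.Agent.GWRankOne

open Subgroup
open scoped commutatorElement

universe u

/-- A transvection of `SL₂(F)` has `p`-power, hence odd, order. -/
theorem SL2_le_of_index_pow {F : Type} [Field F] [Fintype F] (hodd : Odd (Fintype.card F)) {H : Type u} [Group H]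
    {L₁ : Subgroup H} (e : L₁ ≃* Matrix.SpecialLinearGroup (Fin 2) F) {K : Subgroup H} [K.Normal] {a : ℕ}
    (hK : K.index = 2 ^ a) : L₁ ≤ K := by
  set f : Matrix.SpecialLinearGroup (Fin 2) F →* H ⧸ K :=
    ((QuotientGroup.mk' K).comp L₁.subtype).comp e.symm.toMonoidHom with hf
  have hker : f.ker = ⊤ := by
    refine GL.SL_eq_top_of_transvection_mem fun i j hij c => ?_
    rw [MonoidHom.mem_ker]
    set x := Matrix.SpecialLinearGroup.transvection hij c
    have h1 : x ^ Fintype.card F = 1 := by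
      have : ∀ k : ℕ, x ^ k = Matrix.SpecialLinearGroup.transvection hij (k * c) := by
        intro k
        induction k with
        | zero => simp [x]
        | succ k ih =>
          rw [pow_succ, ih]
          apply Subtype.ext
          rw [Matrix.SpecialLinearGroup.coe_mul]
          simp [x, Matrix.SpecialLinearGroup.transvection, Matrix.transvection_mul_transvection_same i j hij]
          ring_nf
      rw [this, FiniteField.cast_card_eq_zero, zero_mul]
      simp
    have h2 : (f x) ^ (2 ^ a) = 1 := by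
      rw [← hK, Subgroup.index_eq_card]
      exact pow_card_eq_one'
    refine orderOf_eq_one_iff.1 (Nat.eq_one_of_dvd_coprimes ?_
      (orderOf_dvd_of_pow_eq_one (by rw [← map_pow, h1, map_one] : f x ^ Fintype.card F = 1))
      (orderOf_dvd_of_pow_eq_one h2))
    exact (Nat.coprime_two_right.2 hodd).pow_right a
  intro h hh
  have h1 : e ⟨h, hh⟩ ∈ f.ker := by rw [hker]; exact mem_top _
  rw [MonoidHom.mem_ker, hf] at h1
  simpa using h1

theorem eq_bot_or_le_center {L : Type u} [Group L] [Finite L] [Group.IsPerfect L]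
    (hs : IsSimpleGroup (L ⧸ center L)) (N : Subgroup L) [N.Normal] : N ≤ center L ∨ N = ⊤ := by
  haveI hn : (N.map (QuotientGroup.mk' (center L))).Normal :=
    Subgroup.Normal.map inferInstance _ (QuotientGroup.mk'_surjective _)
  rcases hs.eq_bot_or_eq_top_of_normal _ hn with h | h
  · left
    intro x hx
    have := h.le (mem_map_of_mem _ hx)
    rwa [mem_bot, QuotientGroup.mk'_apply, QuotientGroup.eq_one_iff] at this
  · right
    have hsup : N ⊔ center L = ⊤ := by
      have h' := congrArg (comap (QuotientGroup.mk' (center L))) h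
      rwa [comap_map_eq, comap_top, QuotientGroup.ker_mk'] at h'
    rw [eq_top_iff, ← Group.IsPerfect.commutator_eq_top (G := L), _root_.commutator_def, commutator_le]
    intro a _ b _
    have hab : ∀ a : L, ∃ n ∈ N, ∃ z ∈ center L, a = n * z := fun a => by
      obtain ⟨n, hn, z, hz, h⟩ := mem_sup_of_normal_left.1 (hsup ▸ mem_top a : a ∈ N ⊔ center L)
      exact ⟨n, hn, z, hz, h.symm⟩
    obtain ⟨n, hn', z, hz, rfl⟩ := hab a
    obtain ⟨m, hm, w, hw, rfl⟩ := hab b
    have : ⁅n * z, m * w⁆ = ⁅n, m⁆ := Schur.commutator_congr (σ := QuotientGroup.mk' (center L))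
      (by rw [QuotientGroup.ker_mk'])
      (by rw [map_mul, show QuotientGroup.mk' (center L) z = 1 from (QuotientGroup.eq_one_iff z).2 hz, mul_one])
      (by rw [map_mul, show QuotientGroup.mk' (center L) w = 1 from (QuotientGroup.eq_one_iff w).2 hw, mul_one])
    rw [this, commutatorElement_def]
    exact mul_mem (mul_mem (mul_mem hn' hm) (inv_mem hn')) (inv_mem hm)

theorem sylow_equiv {G : Type u} [Group G] [Finite G] (P : Sylow 2 G) (Q : Sylow 2 G) :
    Nonempty ((P : Subgroup G) ≃* (Q : Subgroup G)) := ⟨Sylow.equiv P Q⟩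

/-- The normal `SL₂`, which is `K` in the solvable case and perfect otherwise. -/
theorem exists_SL2 (h2 : GW.PartTwo.{u}) {H : Type u} [Group H] [Finite H] (S : Sylow 2 H)
    (hS : Cfsg.IsQuasiDihedral (S : Subgroup H) ∨ Cfsg.IsWreathed (S : Subgroup H)) (hO : Cfsg.oddCore H = ⊥)
    (K : Subgroup H) [K.Normal] {a : ℕ} (hK : K.index = 2 ^ a) (hK2 : ∀ M : Subgroup ↥K, M.index ≠ 2)
    (hKq : ∀ P : Sylow 2 ↥K, ∃ m : ℕ, 1 ≤ m ∧ Nonempty ((P : Subgroup ↥K) ≃* QuaternionGroup (2 ^ m))) :
    ∃ L₀ : Subgroup H, L₀.Normal ∧ ((L₀ = K ∧ Nonempty (L₀ ≃* Matrix.SpecialLinearGroup (Fin 2) (ZMod 3))) ∨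
        Group.IsPerfect L₀) ∧
      (∃ (F : Type) (_ : Field F) (_ : Fintype F), Odd (Fintype.card F) ∧
        Nonempty (L₀ ≃* Matrix.SpecialLinearGroup (Fin 2) F)) ∧
      ∀ L₁ : Subgroup H, L₁.Normal → (∃ (F : Type) (_ : Field F) (_ : Fintype F), Odd (Fintype.card F) ∧
        Nonempty (L₁ ≃* Matrix.SpecialLinearGroup (Fin 2) F)) → L₁ = L₀ := by
  classical
  haveI : Fact (Nat.Prime 2) := ⟨Nat.prime_two⟩
  obtain ⟨PK⟩ : Nonempty (Sylow 2 K) := inferInstance
  obtain ⟨m, hm, ⟨eK⟩⟩ := hKq PK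
  have hOK : Cfsg.oddCore K = ⊥ := PCore.pPrimeCore_eq_bot_of_normal K hO
  obtain ⟨n₀, hmin, hperf⟩ := FTConsumers.AGroupTwoPart.exists_perfect_derived (G := H)
  set L := derivedSeries H n₀ with hL
  haveI hLn : L.Normal := derivedSeries_normal H n₀
  have hLK : L ≤ K := by
    have hp : IsPGroup 2 (H ⧸ K) := IsPGroup.of_card (n := a) (by rw [← Subgroup.index_eq_card, hK])
    haveI := hp.isNilpotent
    obtain ⟨d, hd⟩ := (inferInstance : Group.IsSolvable (H ⧸ K)).solvable
    refine (hmin d).trans fun x hx => ?_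
    have := map_derivedSeries_le_derivedSeries (QuotientGroup.mk' K) d (mem_map_of_mem _ hx)
    rw [hd, mem_bot] at this
    exact (QuotientGroup.eq_one_iff x).1 this
  by_cases hLb : L = ⊥
  · haveI : Group.IsSolvable H := ⟨⟨n₀, hLb⟩⟩
    obtain ⟨h24, ⟨e⟩⟩ := equiv_SL23 h2 hK2 hOK PK hm eK
    refine ⟨K, inferInstance, Or.inl ⟨rfl, ⟨e⟩⟩, ⟨ZMod 3, inferInstance, inferInstance, by rw [ZMod.card]; decide, ⟨e⟩⟩,
      fun L₁ hL₁ ⟨F, iF, iF', hodd, ⟨e₁⟩⟩ => ?_⟩
    have hle := SL2_le_of_index_pow hodd e₁ hK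
    have hq3 : Fintype.card F = 3 := by
      by_contra hne
      have h1 : 4 ≤ Fintype.card F := by
        have := Fintype.one_lt_card (α := F)
        obtain ⟨k, hk⟩ := hodd
        omega
      refine PSL2.not_isSolvable_psl (F := F) h1 ?_
      exact Group.isSolvable_of_surjective (f := (QuotientGroup.mk' _).comp e₁.toMonoidHom)
        ((QuotientGroup.mk'_surjective _).comp e₁.surjective)
    refine Subgroup.eq_of_le_of_card_ge hle ?_
    rw [h24, Nat.card_congr e₁.toEquiv]
    have := GL.card_SL_mul (F := F) 2 (by norm_num)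
    rw [hq3, Fin.prod_univ_two] at this
    norm_num at this ⊢
    omega
  haveI : Group.IsPerfect L := ⟨hperf⟩
  haveI : Nontrivial L := (nontrivial_iff_ne_bot L).2 hLb
  have hOL : Cfsg.oddCore L = ⊥ := PCore.pPrimeCore_eq_bot_of_normal L hO
  obtain ⟨T, hT⟩ := SmithTyrer.exists_sylow_inf_normal S L
  -- quaternion
  obtain ⟨n, hn, ⟨e⟩⟩ : ∃ n : ℕ, 1 ≤ n ∧ Nonempty ((T : Subgroup L) ≃* QuaternionGroup (2 ^ n)) := by
    set ψ : L ≃* L.subgroupOf K := (Subgroup.subgroupOfEquivOfLe hLK).symm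
    obtain ⟨T', ⟨eT⟩⟩ : ∃ T' : Sylow 2 (L.subgroupOf K), Nonempty ((T : Subgroup L) ≃* (T' : Subgroup (L.subgroupOf K))) := by
      obtain ⟨T'⟩ : Nonempty (Sylow 2 (L.subgroupOf K)) := inferInstance
      obtain ⟨T'', ⟨e''⟩⟩ := GW.exists_sylow_equiv ψ T'
      exact ⟨T', ⟨(sylow_equiv T T'').some.trans e''⟩⟩
    rcases quaternion_sylow hKq (L.subgroupOf K) T' with hc | ⟨n, hn, ⟨e'⟩⟩
    · exfalso
      haveI := hc
      have hcT : IsCyclic (T : Subgroup L) := isCyclic_of_surjective eT.symm.toMonoidHom eT.symm.surjective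
      have hp := GW.isPGroup_of_cyclic_two T hcT hOL
      haveI := hp.isNilpotent
      haveI := GW.subsingleton_of_isPerfect (Y := L) inferInstance
      exact not_nontrivial L inferInstance
    · exact ⟨n, hn, ⟨eT.trans e'⟩⟩
  obtain ⟨hZ, hsimple, hcase⟩ := perfect_cover h2 hOL T hn e
  rcases hcase with hSL | ⟨rfl, ⟨f⟩⟩
  swap
  · exact (not_seven S hS L T hT e hZ f).elim
  refine ⟨L, inferInstance, Or.inr inferInstance, hSL, fun L₁ hL₁ ⟨F, iF, iF', hodd, ⟨e₁⟩⟩ => ?_⟩
  haveI := hL₁
  by_cases h4 : 4 ≤ Fintype.card F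
  · -- perfect, so inside `L`
    haveI : Group.IsPerfect L₁ := by
      have h := GL.SL_commutator_eq_top (F := F) 2 le_rfl fun _ =>
        GL.exists_sq_ne_one_of_four_le_card (by rw [Nat.card_eq_fintype_card]; omega)
      refine ⟨?_⟩
      rw [eq_top_iff]
      intro x _
      have hx : e₁ x ∈ (commutator L₁).map e₁.toMonoidHom := by
        rw [_root_.commutator_def, map_commutator, map_top_of_surjective _ e₁.surjective, ← _root_.commutator_def, h]
        exact mem_top _
      obtain ⟨y, hy, hyx⟩ := hx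
      exact e₁.injective hyx ▸ hy
    have hL₁L : L₁ ≤ L := by
      have hd : ∀ k, L₁ ≤ derivedSeries H k := by
        intro k
        induction k with
        | zero => exact le_top
        | succ k ih =>
          intro x hx
          have h1 : (⟨x, hx⟩ : L₁) ∈ commutator L₁ := by rw [Group.IsPerfect.commutator_eq_top]; exact mem_top _
          have h2' := mem_map_of_mem L₁.subtype h1
          rw [map_subtype_commutator] at h2'
          exact (commutator_mono ih ih) h2'
      exact hd n₀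
    rcases eq_bot_or_le_center hsimple (L₁.subgroupOf L) with h | h
    · exfalso
      have : Group.IsSolvable L₁ := by
        haveI : IsMulCommutative L₁ := ⟨⟨fun x y => Subtype.ext (congrArg (fun l : L => (l : H))
          (mem_center_iff.1 (h (show (⟨(y : H), hL₁L y.2⟩ : L) ∈ L₁.subgroupOf L from y.2)) ⟨(x : H), hL₁L x.2⟩) :)⟩⟩
        exact Group.isSolvable_of_comm fun x y => IsMulCommutative.is_comm.comm x y
      refine PSL2.not_isSolvable_psl (F := F) h4 ?_
      exact Group.isSolvable_of_surjective (f := (QuotientGroup.mk' _).comp e₁.toMonoidHom)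
        ((QuotientGroup.mk'_surjective _).comp e₁.surjective)
    · rw [subgroupOf_eq_top] at h
      exact le_antisymm hL₁L h
  · -- `SL(2,3)` would be centralised by `L`
    exfalso
    have hs : Group.IsSolvable L₁ := by
      have hq : Fintype.card F = 3 := by
        have := Fintype.one_lt_card (α := F)
        obtain ⟨k, hk⟩ := hodd
        omega
      refine CharInt.isSolvable_of_card_eq (a := 3) (b := 1) Nat.prime_two Nat.prime_three ?_
      have := GL.card_SL_mul (F := F) 2 (by norm_num)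
      rw [hq, Fin.prod_univ_two] at this
      rw [Nat.card_congr e₁.toEquiv]
      norm_num at this ⊢
      omega
    have hI : (L₁.subgroupOf L) ≤ center L := by
      rcases eq_bot_or_le_center hsimple (L₁.subgroupOf L) with h | h
      · exact h
      · exfalso
        rw [subgroupOf_eq_top] at h
        haveI : Group.IsSolvable L := Group.isSolvable_of_isSolvable_injective (Subgroup.inclusion_injective h)
        haveI := GW.subsingleton_of_isPerfect (Y := L) inferInstance
        exact not_nontrivial L inferInstance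
    have hcen : ⁅⁅L, L⁆, L₁⁆ = ⊥ := by
      have h0 : ⁅⁅L₁, L⁆, L⁆ = ⊥ := by
        rw [commutator_eq_bot_iff_le_centralizer]
        intro x hx
        have hxL : x ∈ L := (commutator_le_right L₁ L) hx
        have hx1 : x ∈ L₁ := (commutator_le_left L₁ L) hx
        have := hI (show (⟨x, hxL⟩ : L) ∈ L₁.subgroupOf L from hx1)
        exact mem_centralizer_iff.2 fun y hy => congrArg Subtype.val (mem_center_iff.1 this ⟨y, hy⟩)
      exact commutator_commutator_eq_bot_of_rotate (by rw [commutator_comm L L₁]; exact h0) h0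
    have hLL : ⁅L, L⁆ = L := by
      rw [← map_subtype_commutator, Group.IsPerfect.commutator_eq_top, ← MonoidHom.range_eq_map, range_subtype]
    rw [hLL, commutator_eq_bot_iff_le_centralizer] at hcen
    obtain ⟨R, hR⟩ := SmithTyrer.exists_sylow_inf_normal S L₁
    obtain ⟨A, c, hA⟩ := exists_shape hS
    have hQ : ∃ p ∈ L.subgroupOf (S : Subgroup H), ∃ q ∈ L.subgroupOf (S : Subgroup H), p * q ≠ q * p := by
      haveI : NeZero (2 ^ n) := ⟨by positivity⟩
      let t₁ : L := (e.symm (.a 1) : (T : Subgroup L))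
      let t₂ : L := (e.symm (.xa 0) : (T : Subgroup L))
      refine ⟨⟨(t₁ : H), (hT.le (e.symm (.a 1)).2).1⟩, t₁.2, ⟨(t₂ : H), (hT.le (e.symm (.xa 0)).2).1⟩, t₂.2,
        fun h => ?_⟩
      have h' : e.symm (.a 1) * e.symm (.xa 0) = e.symm (.xa 0) * e.symm (.a 1) :=
        Subtype.ext (Subtype.ext (congrArg (fun s : ↥(S : Subgroup H) => (s : H)) h :))
      rw [← map_mul, ← map_mul] at h'
      have h'' := e.symm.injective h'
      rw [QuaternionGroup.a_mul_xa, QuaternionGroup.xa_mul_a, QuaternionGroup.xa.injEq] at h''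
      have h2' : ((2 : ℕ) : ZMod (2 * 2 ^ n)) = 0 := by push_cast; linear_combination -h''
      rw [ZMod.natCast_eq_zero_iff, Nat.dvd_iff_mod_eq_zero, Nat.mod_eq_of_lt (by
        have := Nat.pow_le_pow_right two_pos hn; omega)] at h2'
      omega
    have hRA : ∀ r : (R : Subgroup L₁), ∃ s : ↥(S : Subgroup H), (s : H) = ((r : L₁) : H) ∧ s ∈ A := fun r =>
      ⟨⟨_, (hR.le r.2).1⟩, rfl, hA.centralizer_le _ hQ fun q hq =>
        Subtype.ext (by
          rw [Subgroup.coe_mul, Subgroup.coe_mul]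
          exact mem_centralizer_iff.1 (hcen (mem_subgroupOf.1 hq)) _ (r : L₁).2)⟩
    obtain ⟨k, hk, ⟨eR⟩⟩ := S0261.result hodd (Sylow.mapSurjective (f := e₁.toMonoidHom) e₁.surjective R)
    haveI : NeZero (2 ^ k) := ⟨by positivity⟩
    have hRc : IsMulCommutative (R : Subgroup L₁) := ⟨⟨fun r r' => by
      obtain ⟨s, hs1, hsA⟩ := hRA r
      obtain ⟨s', hs2, hsA'⟩ := hRA r'
      have := congrArg (fun u : ↥(S : Subgroup H) => (u : H)) (hA.comm s hsA s' hsA')
      simp only [Subgroup.coe_mul, hs1, hs2] at this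
      exact Subtype.ext (Subtype.ext this)⟩⟩
    set eR' : (R : Subgroup L₁) ≃* QuaternionGroup (2 ^ k) :=
      ((R : Subgroup L₁).equivMapOfInjective e₁.toMonoidHom e₁.injective).trans eR
    have h := congrArg eR' (hRc.is_comm.comm (eR'.symm (.a 1)) (eR'.symm (.xa 0)))
    rw [map_mul, map_mul, MulEquiv.apply_symm_apply, MulEquiv.apply_symm_apply, QuaternionGroup.a_mul_xa,
      QuaternionGroup.xa_mul_a, QuaternionGroup.xa.injEq] at h
    have h2' : ((2 : ℕ) : ZMod (2 * 2 ^ k)) = 0 := by push_cast; linear_combination -h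
    rw [ZMod.natCast_eq_zero_iff, Nat.dvd_iff_mod_eq_zero, Nat.mod_eq_of_lt (by
      have := Nat.pow_le_pow_right two_pos hk; omega)] at h2'
    omega

/-- The statement of S1216. -/
theorem exists_unique_SL2 (h2 : GW.PartTwo.{u}) {H : Type u} [Group H] [Finite H] (S : Sylow 2 H)
    (hS : Cfsg.IsQuasiDihedral (S : Subgroup H) ∨ Cfsg.IsWreathed (S : Subgroup H)) (hO : Cfsg.oddCore H = ⊥)
    (K : Subgroup H) [K.Normal] {a : ℕ} (hK : K.index = 2 ^ a) (hK2 : ∀ M : Subgroup ↥K, M.index ≠ 2)
    (hKq : ∀ P : Sylow 2 ↥K, ∃ m : ℕ, 1 ≤ m ∧ Nonempty ((P : Subgroup ↥K) ≃* QuaternionGroup (2 ^ m))) :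
    ∃ L₀ : Subgroup H, L₀.Normal ∧
      (∃ (F : Type) (_ : Field F) (_ : Fintype F), Odd (Fintype.card F) ∧
        Nonempty (L₀ ≃* Matrix.SpecialLinearGroup (Fin 2) F)) ∧
      ∀ L₁ : Subgroup H, L₁.Normal → (∃ (F : Type) (_ : Field F) (_ : Fintype F), Odd (Fintype.card F) ∧
        Nonempty (L₁ ≃* Matrix.SpecialLinearGroup (Fin 2) F)) → L₁ = L₀ := by
  obtain ⟨L₀, hn, -, h⟩ := exists_SL2 h2 S hS hO K hK hK2 hKq
  exact ⟨L₀, hn, h⟩

end Cfsg.Agent.GWRankOne
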