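import Mathlib.GroupTheory.SpecificGroups.Alternating
import Mathlib.GroupTheory.Sylow
import Mathlib.Tactic

/-!
# The two four-groups of a dihedral subgroup of order eight of `A₇` are not exchanged by automorphisms
-/

set_option autoImplicit false
set_option linter.style.haveILetI false

namespace Cfsg.Agent.GWRankOne.Seven

open Equiv Subgroup

/-- `(0 1 2 3)(4 5)` -/
def g0 : alternatingGroup (Fin 7) :=
  ⟨swap 0 3 * swap 0 2 * swap 0 1 * swap 4 5, Perm.mem_alternatingGroup.2 (by decide +kernel)⟩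

/-- `(0 1)(2 3)` -/
def y0 : alternatingGroup (Fin 7) := ⟨swap 0 1 * swap 2 3, Perm.mem_alternatingGroup.2 (by decide +kernel)⟩

/-- `(4 5 6)` -/
def s0 : alternatingGroup (Fin 7) := ⟨swap 4 6 * swap 4 5, Perm.mem_alternatingGroup.2 (by decide +kernel)⟩

/-- Elements of the model. -/
def el (p : Fin 4 × Fin 2) : alternatingGroup (Fin 7) := g0 ^ p.1.val * y0 ^ p.2.val

theorem el_mul : ∀ p q, ∃ r, el p * el q = el r := by decide +kernel

theorem el_inv : ∀ p, ∃ r, (el p)⁻¹ = el r := by decide +kernel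

theorem el_inj : Function.Injective el := by decide +kernel

/-- The model. -/
def P0 : Subgroup (alternatingGroup (Fin 7)) where
  carrier := Set.range el
  one_mem' := ⟨(0, 0), rfl⟩
  mul_mem' := by
    rintro _ _ ⟨p, rfl⟩ ⟨q, rfl⟩
    obtain ⟨r, hr⟩ := el_mul p q
    exact ⟨r, hr.symm⟩
  inv_mem' := by
    rintro _ ⟨p, rfl⟩
    obtain ⟨r, hr⟩ := el_inv p
    exact ⟨r, hr.symm⟩

theorem card_P0 : Nat.card P0 = 8 := by
  rw [show Nat.card P0 = Nat.card (Set.range el) from rfl, Nat.card_range_of_injective el_inj]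
  simp

theorem s0_facts : orderOf s0 = 3 ∧ Commute s0 (g0 ^ 2) ∧ Commute s0 y0 ∧ Commute s0 (g0 ^ 2 * y0) := by
  refine ⟨orderOf_eq_prime (by decide +kernel) (by decide +kernel), ?_, ?_, ?_⟩ <;>
    (show _ = _) <;> decide +kernel

theorem no_three : ∀ t : alternatingGroup (Fin 7), t * t * t = 1 → t * g0 ^ 2 = g0 ^ 2 * t →
    t * (g0 * y0) = g0 * y0 * t → t = 1 := by decide +kernel

set_option synthInstance.maxSize 2000 in
theorem model_cases : ∀ p q : Fin 4 × Fin 2, el p * el p ≠ 1 → el q * el q = 1 →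
    el q * el p * (el q)⁻¹ = (el p)⁻¹ → el p * el p = g0 ^ 2 ∧
      ((el q = g0 * y0 ∨ el q = g0 ^ 3 * y0) ∧ (el p * el q = y0 ∨ el p * el q = g0 ^ 2 * y0) ∨
        (el q = y0 ∨ el q = g0 ^ 2 * y0) ∧ (el p * el q = g0 * y0 ∨ el p * el q = g0 ^ 3 * y0)) := by
  decide +kernel

attribute [local irreducible] g0 y0 s0 el

/-- `t` of order three cannot centralise the bad four-group. -/
theorem bad {t : alternatingGroup (Fin 7)} (ht : orderOf t = 3) {v : alternatingGroup (Fin 7)}
    (h2 : Commute t (g0 ^ 2)) (hv : v = g0 * y0 ∨ v = g0 ^ 3 * y0) (hc : Commute t v) : False := by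
  have h3 : t * t * t = 1 := by
    rw [← pow_three']
    exact orderOf_dvd_iff_pow_eq_one.1 ht.dvd
  have h1 : Commute t (g0 * y0) := by
    rcases hv with rfl | rfl
    · exact hc
    · have := h2.inv_right.mul_right hc
      rwa [show (g0 ^ 2)⁻¹ * (g0 ^ 3 * y0) = g0 * y0 by rw [pow_succ g0 2]; group] at this
  rw [no_three t h3 h2.eq h1.eq, orderOf_one] at ht
  norm_num at ht

theorem factorization_two : (Nat.card (alternatingGroup (Fin 7))).factorization 2 = 3 := by
  rw [nat_card_alternatingGroup, Nat.card_fin, show (Nat.factorial 7 / 2 : ℕ) = 2 ^ 3 * 315 by decide,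
    Nat.factorization_mul (by norm_num) (by norm_num), Finsupp.add_apply, Nat.Prime.factorization_pow Nat.prime_two,
    Nat.factorization_eq_zero_of_not_dvd (show ¬ 2 ∣ 315 by norm_num)]
  simp

/-- An order-three element centralising `x` moved by an automorphism. -/
theorem commute_map {M : Type*} [Monoid M] {N : Type*} [Monoid N] (f : M →* N) {s x : M} {s' x' : N}
    (hs : f s = s') (hx : f x = x') (h : Commute s x) : Commute s' x' := hs ▸ hx ▸ h.map f

/-- No automorphism fixes `a ^ 2` and moves `b` to `a * b`. -/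
theorem no_swap (φ : alternatingGroup (Fin 7) ≃* alternatingGroup (Fin 7)) (a b : alternatingGroup (Fin 7))
    (ha4 : a ^ 4 = 1) (ha2 : a * a ≠ 1) (hb : b * b = 1) (hba : b * a * b⁻¹ = a⁻¹)
    (hφa : φ (a * a) = a * a) (hφb : φ b = a * b) : False := by
  haveI : Fact (Nat.Prime 2) := ⟨Nat.prime_two⟩
  -- move `a`, `b` into the model
  let P : Sylow 2 (alternatingGroup (Fin 7)) := Sylow.ofCard P0 (by rw [card_P0, factorization_two]; norm_num)
  let D : Subgroup (alternatingGroup (Fin 7)) :=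
    { carrier := {x | ∃ i : ℤ, x = a ^ i ∨ x = a ^ i * b}
      one_mem' := ⟨0, Or.inl (zpow_zero a).symm⟩
      mul_mem' := by
        have hbz : ∀ j : ℤ, b * a ^ j = a ^ (-j) * b := fun j => by
          have h1 : b * a ^ j * b⁻¹ = a ^ (-j) := by rw [← conj_zpow, hba, inv_zpow, zpow_neg]
          rw [← h1, inv_mul_cancel_right]
        rintro _ _ ⟨i, rfl | rfl⟩ ⟨j, rfl | rfl⟩
        · exact ⟨i + j, Or.inl (zpow_add a i j).symm⟩
        · exact ⟨i + j, Or.inr (by rw [← mul_assoc, ← zpow_add])⟩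
        · exact ⟨i + -j, Or.inr (by rw [mul_assoc, hbz, ← mul_assoc, ← zpow_add])⟩
        · exact ⟨i + -j, Or.inl (by rw [mul_assoc, ← mul_assoc b, hbz, mul_assoc, hb, mul_one, ← zpow_add])⟩
      inv_mem' := by
        have hbi : b⁻¹ = b := inv_eq_of_mul_eq_one_right hb
        rintro _ ⟨i, rfl | rfl⟩
        · exact ⟨-i, Or.inl (zpow_neg a i).symm⟩
        · refine ⟨i, Or.inr ?_⟩
          have h1 : b * a ^ (-i) * b⁻¹ = a ^ i := by rw [← conj_zpow, hba, inv_zpow, zpow_neg, inv_inv]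
          calc (a ^ i * b)⁻¹ = b * a ^ (-i) := by rw [mul_inv_rev, hbi, zpow_neg]
            _ = a ^ i * b := by rw [← h1, inv_mul_cancel_right] }
  have hD : IsPGroup 2 D := by
    rintro ⟨x, i, rfl | rfl⟩
    · refine ⟨2, Subtype.ext ?_⟩
      rw [SubgroupClass.coe_pow, OneMemClass.coe_one, ← zpow_natCast, ← zpow_mul, mul_comm, zpow_mul, zpow_natCast]
      norm_num [ha4]
    · refine ⟨1, Subtype.ext ?_⟩
      have h1 : b * a ^ i * b⁻¹ = a ^ (-i) := by rw [← conj_zpow, hba, inv_zpow, zpow_neg]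
      rw [SubgroupClass.coe_pow, OneMemClass.coe_one, pow_one, pow_two]
      calc a ^ i * b * (a ^ i * b) = a ^ i * (b * a ^ i * b⁻¹) * (b * b) := by group
        _ = 1 := by rw [h1, hb, mul_one, ← zpow_add, add_neg_cancel, zpow_zero]
  obtain ⟨R, hR⟩ := hD.exists_le_sylow
  obtain ⟨w, hw⟩ := MulAction.exists_smul_eq (alternatingGroup (Fin 7)) R P
  have hmem : ∀ x ∈ D, ∃ p, el p = w * x * w⁻¹ := fun x hx => by
    have h1 : w * x * w⁻¹ ∈ (P : Subgroup (alternatingGroup (Fin 7))) := by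
      rw [← hw, Sylow.coe_subgroup_smul]
      exact ⟨x, hR hx, rfl⟩
    exact h1
  obtain ⟨p, hp⟩ := hmem a ⟨1, Or.inl (zpow_one a).symm⟩
  obtain ⟨q, hq⟩ := hmem b ⟨0, Or.inr (by rw [zpow_zero, one_mul])⟩
  set c := MulAut.conj w with hc
  have hp' : el p = c a := hp
  have hq' : el q = c b := hq
  obtain ⟨hsq, hcase⟩ := model_cases p q
    (by rw [hp', ← map_mul]; exact fun h => ha2 (c.injective (h.trans (map_one c).symm)))
    (by rw [hq', ← map_mul, hb, map_one])
    (by rw [hp', hq', ← map_inv, ← map_mul, ← map_mul, hba, map_inv])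
  rw [hp', hq', ← map_mul] at hcase
  rw [hp', ← map_mul] at hsq
  -- the automorphism in the coordinates of the model
  let ψ : alternatingGroup (Fin 7) ≃* alternatingGroup (Fin 7) := c.symm.trans (φ.trans c)
  have hψ : ∀ x, ψ (c x) = c (φ x) := fun x => by
    show c (φ (c.symm (c x))) = c (φ x)
    rw [c.symm_apply_apply]
  have hψ2 : ψ (g0 ^ 2) = g0 ^ 2 := by rw [← hsq, hψ, hφa]
  have hψb : ψ (c b) = c (a * b) := by rw [hψ, hφb]
  obtain ⟨hs, hs2, hsy, hsy'⟩ := s0_facts
  rcases hcase with ⟨hb', hab⟩ | ⟨hb', hab⟩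
  · -- `c b` is bad, `c (a * b)` is good
    have hgood : Commute s0 (c (a * b)) := by
      rcases hab with h | h
      · rw [h]; exact hsy
      · rw [h]; exact hsy'
    exact bad (t := ψ.symm s0) (by rw [MulEquiv.orderOf_eq, hs])
      (commute_map ψ.symm.toMonoidHom rfl (ψ.symm_apply_eq.2 hψ2.symm) hs2) hb'
      (commute_map ψ.symm.toMonoidHom rfl (ψ.symm_apply_eq.2 hψb.symm) hgood)
  · have hgood : Commute s0 (c b) := by
      rcases hb' with h | h
      · rw [h]; exact hsy
      · rw [h]; exact hsy'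
    exact bad (t := ψ s0) (by rw [MulEquiv.orderOf_eq, hs]) (commute_map ψ.toMonoidHom rfl hψ2 hs2) hab
      (commute_map ψ.toMonoidHom rfl hψb hgood)

end Cfsg.Agent.GWRankOne.Seven
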