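import Cfsg.Agent.Lib.TwoGroups.QuasiDihedral
import Cfsg.Agent.Lib.TwoGroups.Wreathed
import Mathlib.GroupTheory.SpecificGroups.Quaternion
import Mathlib.GroupTheory.IndexNormal

/-!
# Quaternion subgroups of quasi-dihedral and wreathed 2-groups

* `exists_shape`: an abelian subgroup `A` of index two and `c ∈ A` such that `⁅c, y⁆ ^ 4 ≠ 1` for every `y ∉ A`
  in a subgroup that is quaternion of order sixteen
* `centralizer_le`: a non-abelian subgroup is centralised inside `A` only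
-/

set_option autoImplicit false
set_option linter.style.haveILetI false

namespace Cfsg.Agent.GWRankOne

open Subgroup TwoGroups
open scoped commutatorElement

universe u

theorem q16_noncentral : ∃ g h : QuaternionGroup 4, g ^ 4 ≠ 1 ∧ h * g ^ 2 ≠ g ^ 2 * h :=
  ⟨.a 1, .xa 0, by decide⟩

theorem q16_involution : ∀ t u : QuaternionGroup 4, t * t = 1 → t * u = u * t := by decide

theorem q16_relations : ∀ g y : QuaternionGroup 4, g ^ 4 ≠ 1 → (∀ i : Fin 8, y ≠ g ^ i.val) →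
    g ^ 8 = 1 ∧ y * y = g ^ 4 ∧ y * g * y⁻¹ = g⁻¹ := by decide +kernel

variable {S : Type u} [Group S] [Finite S]

/-- What is used about quasi-dihedral and wreathed groups. -/
structure Shape (A : Subgroup S) (c : S) : Prop where
  comm : ∀ a ∈ A, ∀ b ∈ A, a * b = b * a
  index : A.index = 2
  mem : c ∈ A
  big_sq : ∀ y : S, y ∉ A → ⁅c, y⁆ ^ 2 ≠ 1
  big : ∀ Q : Subgroup S, Nonempty (Q ≃* QuaternionGroup 4) → ∀ y ∈ Q, y ∉ A → ⁅c, y⁆ ^ 4 ≠ 1

theorem exists_shape_qd (hS : Cfsg.IsQuasiDihedral S) : ∃ (A : Subgroup S) (c : S), Shape A c := by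
  obtain ⟨x, y, m, h⟩ := exists_qdGen hS
  have hc : ∀ i : ℤ, ⁅x, x ^ i * y⁆ = x ^ ((2 : ℤ) - 4 * 2 ^ m) := by
    intro i
    have h1 := h.conj_xy_by_x 1 i
    rw [zpow_one] at h1
    rw [commutatorElement_def, h1, mul_inv_rev, ← mul_assoc, mul_inv_cancel_right, ← zpow_neg, ← zpow_add]
    congr 1
    ring
  refine ⟨zpowers x, x, fun a ha b hb => ?_, h.index_zpowers, mem_zpowers x, fun w hwA => ?_,
    fun Q ⟨e⟩ w hwQ hwA => ?_⟩
  · obtain ⟨i, rfl⟩ := ha
    obtain ⟨j, rfl⟩ := hb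
    exact ((Commute.refl x).zpow_zpow i j).eq
  · obtain ⟨i, rfl | rfl⟩ := h.exists_form w
    · exact absurd (zpow_mem (mem_zpowers x) i) hwA
    rw [hc]
    intro h0
    rw [← zpow_natCast, ← zpow_mul, h.zpow_eq_one_iff] at h0
    obtain ⟨r, hr⟩ := h0
    push_cast at hr
    have h2 : (1 : ℤ) = 2 * (2 ^ m * (r + 1)) := by linarith
    omega
  obtain ⟨i, rfl | rfl⟩ := h.exists_form w
  · exact absurd (zpow_mem (mem_zpowers x) i) hwA
  rw [hc]
  rcases Nat.eq_zero_or_pos m with rfl | hm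
  · exfalso
    have hQ : Q = ⊤ := Subgroup.eq_top_of_card_eq Q (by
      rw [Nat.card_congr e.toEquiv, h.card, Nat.card_eq_fintype_card, QuaternionGroup.card]; norm_num)
    subst hQ
    have h1 := q16_involution (e ⟨y, mem_top y⟩) (e ⟨x, mem_top x⟩) (by
      rw [← map_mul, show (⟨y, mem_top y⟩ : (⊤ : Subgroup S)) * ⟨y, mem_top y⟩ = 1 from Subtype.ext h.y_mul_self,
        map_one])
    rw [← map_mul, ← map_mul] at h1
    have h2 : y * x = x * y := congrArg Subtype.val (e.injective h1)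
    have h3 : y * x * y⁻¹ = x := by rw [h2]; group
    rw [h.conj] at h3
    have h4 := (h.zpow_eq_iff ((4 : ℤ) * 2 ^ 0 - 1) 1).1 (by rw [zpow_one]; exact h3)
    norm_num at h4
  · intro h0
    rw [← zpow_natCast, ← zpow_mul, h.zpow_eq_one_iff] at h0
    obtain ⟨k, rfl⟩ : ∃ k, m = k + 1 := ⟨m - 1, by omega⟩
    obtain ⟨r, hr⟩ := h0
    push_cast at hr
    rw [pow_succ] at hr
    have h2 : (1 : ℤ) = 2 * (2 ^ k * (r + 2)) := by linarith
    omega

theorem exists_shape_wr (hS : Cfsg.IsWreathed S) : ∃ (A : Subgroup S) (c : S), Shape A c := by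
  obtain ⟨x, y, z, n, h⟩ := exists_wrGen hS
  let A : Subgroup S :=
    { carrier := {g | ∃ i j : ℤ, g = WRGen.pr x y i j}
      one_mem' := ⟨0, 0, by simp [WRGen.pr]⟩
      mul_mem' := by
        rintro _ _ ⟨i, j, rfl⟩ ⟨k, l, rfl⟩
        exact ⟨_, _, h.pr_mul i j k l⟩
      inv_mem' := by
        rintro _ ⟨i, j, rfl⟩
        exact ⟨_, _, h.pr_inv i j⟩ }
  have hz : ∀ i j : ℤ, WRGen.pr x y i j * z ∉ A := by
    rintro i j ⟨k, l, e⟩
    exact h.prz_ne _ _ _ _ e
  have hidx : A.index = 2 := by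
    refine Subgroup.index_eq_two_iff.2 ⟨z, fun b => ?_⟩
    obtain ⟨i, j, rfl | rfl⟩ := h.exists_form b
    · exact Or.inr ⟨⟨i, j, rfl⟩, hz i j⟩
    · exact Or.inl ⟨⟨i, j, by rw [mul_assoc, h.z_mul_self, mul_one]⟩, hz i j⟩
  have hc : ∀ i j : ℤ, ⁅x, WRGen.pr x y i j * z⁆ = WRGen.pr x y 1 (-1) := by
    intro i j
    have h1 := h.conj_prz_by_pr 1 0 i j
    rw [show WRGen.pr x y 1 0 = x by simp [WRGen.pr]] at h1
    rw [commutatorElement_def, h1, h.prz_inv, h.prz_mul_prz]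
    congr 1 <;> ring
  refine ⟨A, x, ?_, hidx, ⟨1, 0, by simp [WRGen.pr]⟩, fun w hwA => ?_, fun Q ⟨e⟩ w hwQ hwA => ?_⟩
  · rintro _ ⟨i, j, rfl⟩ _ ⟨k, l, rfl⟩
    exact h.pr_comm i j k l
  · obtain ⟨i, j, rfl | rfl⟩ := h.exists_form w
    · exact absurd ⟨i, j, rfl⟩ hwA
    rw [hc, pow_two, h.pr_mul, Ne, h.pr_eq_one_iff]
    rintro ⟨hd, -⟩
    have h4 : ((2 : ℤ) ^ n) ≤ 2 := Int.le_of_dvd (by norm_num) (by simpa using hd)
    have h4' : 2 ^ n ≤ 2 ^ 1 := by exact_mod_cast h4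
    have := h.two_le
    have := (Nat.pow_le_pow_iff_right (by norm_num : 1 < 2)).1 h4'
    omega
  obtain ⟨i, j, rfl | rfl⟩ := h.exists_form w
  · exact absurd ⟨i, j, rfl⟩ hwA
  rw [hc]
  intro h0
  rw [show (4 : ℕ) = 2 + 2 by norm_num, pow_add, pow_two, h.pr_mul, h.pr_mul, h.pr_eq_one_iff] at h0
  have hn : n = 2 := by
    have h4 : ((2 : ℤ) ^ n) ≤ 4 := Int.le_of_dvd (by norm_num) (by simpa using h0.1)
    have h4' : 2 ^ n ≤ 2 ^ 2 := by exact_mod_cast h4
    have := h.two_le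
    have := (Nat.pow_le_pow_iff_right (by norm_num : 1 < 2)).1 h4'
    omega
  subst hn
  obtain ⟨g, u, hg, hgu⟩ := q16_noncentral
  obtain ⟨a, b, ha | ha⟩ := h.exists_form ((e.symm g : Q) : S)
  · refine hg (e.symm.injective (Subtype.ext ?_))
    rw [map_pow, Subgroup.coe_pow, ha, map_one, OneMemClass.coe_one, pow_succ, pow_succ, pow_two, h.pr_mul,
      h.pr_mul, h.pr_mul, h.pr_eq_one_iff]
    constructor
    · exact ⟨a, by ring⟩
    · exact ⟨b, by ring⟩
  · refine hgu (e.symm.injective (Subtype.ext ?_))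
    rw [map_mul, map_mul, map_pow, Subgroup.coe_mul, Subgroup.coe_mul, Subgroup.coe_pow, ha, h.prz_sq]
    obtain ⟨k, l, hk | hk⟩ := h.exists_form ((e.symm u : Q) : S) <;> rw [hk]
    · exact h.pr_comm _ _ _ _
    · rw [h.prz_mul_pr, h.pr_mul_prz]
      ring_nf

theorem exists_shape (hS : Cfsg.IsQuasiDihedral S ∨ Cfsg.IsWreathed S) : ∃ (A : Subgroup S) (c : S), Shape A c :=
  hS.elim exists_shape_qd exists_shape_wr

omit [Finite S] in
theorem Shape.centralizer_le {A : Subgroup S} {c : S} (h : Shape A c) (Q : Subgroup S)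
    (hQ : ∃ a ∈ Q, ∃ b ∈ Q, a * b ≠ b * a) {s : S} (hs : ∀ q ∈ Q, s * q = q * s) : s ∈ A := by
  by_contra hsA
  obtain ⟨a, ha, b, hb, hab⟩ := hQ
  -- an element of `Q` inside `A` commutes with everything in `Q`
  have key : ∀ q ∈ Q, q ∈ A → ∀ r ∈ Q, q * r = r * q := by
    intro q hq hqA r hr
    by_cases hrA : r ∈ A
    · exact h.comm q hqA r hrA
    · have hrs : r * s ∈ A := (Subgroup.mul_mem_iff_of_index_two h.index).2 ⟨fun hh => absurd hh hrA, fun hh => absurd hh hsA⟩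
      have h1 : Commute q (r * s) := h.comm q hqA _ hrs
      have h2 : Commute q s⁻¹ := (show Commute q s from (hs q hq).symm).inv_right
      simpa using (h1.mul_right h2).eq
  by_cases haA : a ∈ A
  · exact hab (key a ha haA b hb)
  by_cases hbA : b ∈ A
  · exact hab (key b hb hbA a ha).symm
  have hm : a * b ∈ A := (Subgroup.mul_mem_iff_of_index_two h.index).2 ⟨fun hh => absurd hh haA, fun hh => absurd hh hbA⟩
  have h1 : Commute (a * b) a := key _ (mul_mem ha hb) hm a ha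
  apply hab
  have h2 : a * b * a = a * (a * b) := h1.eq
  rw [mul_assoc] at h2
  exact (mul_left_cancel h2).symm

end Cfsg.Agent.GWRankOne
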