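import Cfsg.Agent.Lib.GW.Assembly
import Cfsg.Agent.Lib.GWRankOne.Cover
import Cfsg.Agent.Lib.GWRankOne.Seven
import Cfsg.Agent.Lib.GWRankOne.TwoShape
import Cfsg.Agent.Lib.RankOneP.Main
import Cfsg.Agent.Lib.LocalStructure.SL23Normal
import Cfsg.Agent.Lib.PGroup.UniqueOrderP
import Cfsg.Agent.Lib.SmithTyrer.Main
import Cfsg.Agent.Lib.FTConsumers.AGroupTwoPart
import Cfsg.Agent.Lib.PSL2.MinimalSimple
import Cfsg.Agent.S0261

/-!
# Pieces for groups whose 2-fusion kernel has quaternion Sylow 2-subgroups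

* `perfect_cover`: a perfect group with quaternion Sylow and trivial odd core is a double cover of a known group
* `equiv_SL23`: the solvable case is `SL(2,3)`
* `not_seven`: the double cover of `A₇` does not occur below a quasi-dihedral or wreathed Sylow 2-subgroup
-/

set_option autoImplicit false
set_option linter.style.haveILetI false

namespace Cfsg.Agent.GWRankOne

open Subgroup
open scoped commutatorElement

universe u v

theorem q16_unique : ∀ g t : QuaternionGroup 4, g ^ 4 ≠ 1 → t * t = 1 → t ≠ 1 → t = g ^ 4 := by decide +kernel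

theorem quaternion_sylow {G : Type u} [Group G] [Finite G] (hq : ∀ P : Sylow 2 G,
      ∃ m : ℕ, 1 ≤ m ∧ Nonempty ((P : Subgroup G) ≃* QuaternionGroup (2 ^ m)))
    (L : Subgroup G) (T : Sylow 2 L) :
    IsCyclic (T : Subgroup L) ∨ ∃ n : ℕ, 1 ≤ n ∧ Nonempty ((T : Subgroup L) ≃* QuaternionGroup (2 ^ n)) := by
  haveI : Fact (Nat.Prime 2) := ⟨Nat.prime_two⟩
  obtain ⟨P, hP⟩ := (T.2.map L.subtype).exists_le_sylow
  obtain ⟨m, hm, ⟨e⟩⟩ := hq P
  obtain ⟨q, -, -, huniq, -⟩ := QuaternionFactor.quat_facts hm e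
  have key : ∀ C : Subgroup (T : Subgroup L), Nat.card C = 2 →
      ∃ x ∈ C, x ≠ 1 ∧ ((x : L) : G) = q ∧ C = zpowers x := by
    intro C hC
    haveI : Nontrivial C := by rw [← Finite.one_lt_card_iff_nontrivial, hC]; omega
    obtain ⟨⟨x, hx⟩, hx1⟩ := exists_ne (1 : C)
    have hx1' : x ≠ 1 := fun h => hx1 (Subtype.ext h)
    have hx2 : x ^ 2 = 1 := by
      have := Subgroup.orderOf_dvd_natCard C hx
      rw [hC] at this
      exact orderOf_dvd_iff_pow_eq_one.1 this
    refine ⟨x, hx, hx1', ?_, (eq_of_le_of_card_ge (zpowers_le.2 hx) ?_).symm⟩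
    · exact (huniq ((x : L) : G) (hP ⟨x, x.2, rfl⟩) (by
        rw [← Subgroup.coe_pow, ← Subgroup.coe_pow, hx2]; rfl)).resolve_left
        (fun h => hx1' (Subtype.ext (Subtype.ext h)))
    · rw [hC, Nat.card_zpowers, orderOf_eq_prime hx2 hx1']
  rcases PGroup.cyclic_or_quaternion_of_unique T.2 (fun A B hA hB => by
      obtain ⟨a, -, -, ha, rfl⟩ := key A hA
      obtain ⟨b, -, -, hb, rfl⟩ := key B hB
      rw [show a = b from Subtype.ext (Subtype.ext (ha.trans hb.symm))]) with hc | ⟨-, n, hn, -, h⟩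
  · exact Or.inl hc
  · exact Or.inr ⟨n, hn, h⟩

/-- A perfect group with quaternion Sylow 2-subgroups and trivial odd core. -/
theorem perfect_cover (h2 : GW.PartTwo.{u}) {L : Type u} [Group L] [Finite L] [Group.IsPerfect L]
    (hO : Cfsg.oddCore L = ⊥) (T : Sylow 2 L) {n : ℕ} (hn : 1 ≤ n)
    (e : (T : Subgroup L) ≃* QuaternionGroup (2 ^ n)) :
    Nat.card (center L) = 2 ∧ IsSimpleGroup (L ⧸ center L) ∧
      ((∃ (F : Type) (_ : Field F) (_ : Fintype F), Odd (Fintype.card F) ∧
          Nonempty (L ≃* Matrix.SpecialLinearGroup (Fin 2) F)) ∨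
        (n = 2 ∧ Nonempty (L ⧸ center L ≃* alternatingGroup (Fin 7)))) := by
  haveI : Fact (Nat.Prime 2) := ⟨Nat.prime_two⟩
  obtain ⟨hZ, -, hO', TY, ⟨eY⟩⟩ := RankOneP.quaternion_quotient T n hn e hO
  haveI := GW.isPerfect_quotient (center L)
  have h2n : 2 ≤ 2 ^ n := (Nat.pow_le_pow_right two_pos hn).trans' le_rfl
  have hk := GW.known_of_perfect h2 TY h2n ⟨eY⟩
  have hk' : GW.IsKnown (L ⧸ center L) :=
    hk.of_equiv ((QuotientGroup.quotientMulEquivOfEq hO').trans QuotientGroup.quotientBot)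
  refine ⟨hZ, ?_, ?_⟩
  · rcases hk' with ⟨F, iF, iF', -, h3, ⟨f⟩⟩ | ⟨⟨f⟩⟩
    · haveI := PSL2.psl_isSimpleGroup (F := F) (by omega)
      exact f.isSimpleGroup
    · haveI := alternatingGroup.isSimpleGroup (α := Fin 7) (by simp)
      exact f.isSimpleGroup
  rcases hk' with ⟨F, iF, iF', hodd, h3, ⟨f⟩⟩ | ⟨⟨f⟩⟩
  · refine Or.inl ⟨F, iF, iF', hodd, ?_⟩
    have hker : (f.toMonoidHom.comp (QuotientGroup.mk' (center L))).ker = center L := by
      ext x; simp
    exact nonempty_equiv_SL hodd h3 (f.toMonoidHom.comp (QuotientGroup.mk' (center L)))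
      (f.surjective.comp (QuotientGroup.mk'_surjective _)) hker.le Group.IsPerfect.commutator_eq_top
      (by rw [hker, hZ])
  · refine Or.inr ⟨?_, ⟨f⟩⟩
    obtain ⟨k, hk⟩ : ∃ k, Nat.card (TY : Subgroup (L ⧸ center L)) = k := ⟨_, rfl⟩
    have hc := TY.card_eq_multiplicity
    rw [Nat.card_congr eY.toEquiv, DihedralGroup.nat_card, Nat.card_congr f.toEquiv, Seven.factorization_two,
      ← pow_succ'] at hc
    have := Nat.pow_right_injective le_rfl hc
    omega

theorem exists_index_two {X : Type u} [Group X] [Finite X] [Nontrivial X] (h : IsPGroup 2 X) :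
    ∃ M : Subgroup X, M.index = 2 := by
  haveI : Fact (Nat.Prime 2) := ⟨Nat.prime_two⟩
  obtain ⟨k, hk⟩ := IsPGroup.iff_card.1 h
  obtain ⟨j, rfl⟩ : ∃ j, k = j + 1 := ⟨k - 1, by
    have := Finite.one_lt_card (α := X)
    rcases k with _ | k <;> simp_all⟩
  obtain ⟨M, hM⟩ := Sylow.exists_subgroup_card_pow_prime 2 (n := j) (hk ▸ pow_dvd_pow 2 j.le_succ)
  refine ⟨M, ?_⟩
  have h1 := M.card_mul_index
  rw [hM, hk, pow_succ] at h1
  exact Nat.eq_of_mul_eq_mul_left (by positivity) h1

/-- The solvable case. -/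
theorem equiv_SL23 (h2 : GW.PartTwo.{u}) {K : Type u} [Group K] [Finite K] [Group.IsSolvable K]
    (hM : ∀ M : Subgroup K, M.index ≠ 2) (hO : Cfsg.oddCore K = ⊥) (T : Sylow 2 K) {n : ℕ} (hn : 1 ≤ n)
    (e : (T : Subgroup K) ≃* QuaternionGroup (2 ^ n)) :
    Nat.card K = 24 ∧ Nonempty (K ≃* Matrix.SpecialLinearGroup (Fin 2) (ZMod 3)) := by
  haveI : Fact (Nat.Prime 2) := ⟨Nat.prime_two⟩
  obtain ⟨hZ, hZT, hO', TY, ⟨eY⟩⟩ := RankOneP.quaternion_quotient T n hn e hO
  have h2n : 2 ≤ 2 ^ n := (Nat.pow_le_pow_right two_pos hn).trans' le_rfl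
  have hM' : ∀ M : Subgroup (K ⧸ center K), M.index ≠ 2 := fun M hMi =>
    hM (M.comap (QuotientGroup.mk' _)) (by rw [index_comap_of_surjective _ (QuotientGroup.mk'_surjective _), hMi])
  have hTYc : Nat.card (TY : Subgroup (K ⧸ center K)) = 2 * 2 ^ n := by
    rw [Nat.card_congr eY.toEquiv, DihedralGroup.nat_card]
  haveI : Nontrivial (K ⧸ center K) := by
    rw [← Finite.one_lt_card_iff_nontrivial]
    have := Nat.le_of_dvd Nat.card_pos (TY : Subgroup (K ⧸ center K)).card_subgroup_dvd_card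
    omega
  haveI : NeZero (2 ^ n) := ⟨by positivity⟩
  rcases GW.structure_of_oddCore_eq_bot (GW.subDihedral_of_sylow TY h2n eY) (GW.knownSections h2) hO' with
    hp | ⟨⟨f⟩⟩ | ⟨⟨f⟩⟩ | ⟨E, -, -, hEk, -⟩
  · obtain ⟨M, hM2⟩ := exists_index_two hp
    exact absurd hM2 (hM' M)
  · have hc : Nat.card (K ⧸ center K) = 12 := by
      rw [Nat.card_congr f.toEquiv, nat_card_alternatingGroup, Nat.card_fin]; rfl
    have hK : Nat.card K = 24 := by
      rw [(center K).card_eq_card_quotient_mul_card_subgroup, hc, hZ]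
    refine ⟨hK, ?_⟩
    have hT : Nat.card (T : Subgroup K) = 8 := by
      rw [T.card_eq_multiplicity, hK, show (24 : ℕ) = 2 ^ 3 * 3 by norm_num,
        Nat.factorization_mul (by norm_num) (by norm_num), Finsupp.add_apply,
        Nat.Prime.factorization_pow Nat.prime_two, Nat.factorization_eq_zero_of_not_dvd (show ¬ 2 ∣ 3 by norm_num)]
      simp
    have hn1 : n = 1 := by
      rw [Nat.card_congr e.toEquiv, Nat.card_eq_fintype_card, QuaternionGroup.card] at hT
      have h' : 2 ^ n = 2 ^ 1 := by omega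
      exact Nat.pow_right_injective le_rfl h'
    subst hn1
    -- the Klein subgroup of `A₄` pulls back to `T`
    set π := f.toMonoidHom.comp (QuotientGroup.mk' (center K)) with hπ
    have hTn : (T : Subgroup K).Normal := by
      have h1 : ((T : Subgroup K).map π) ≤ alternatingGroup.kleinFour (Fin 4) := by
        haveI hN : (alternatingGroup.kleinFour (Fin 4)).Normal :=
          alternatingGroup.normal_kleinFour (by simp)
        obtain ⟨R, hR⟩ := (T.2.map π).exists_le_sylow
        refine hR.trans (le_of_eq ?_)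
        exact alternatingGroup.two_sylow_eq_kleinFour_of_card_eq_four (by simp) R
      have h2' : (T : Subgroup K) = (alternatingGroup.kleinFour (Fin 4)).comap π := by
        refine T.is_maximal' ?_ (map_le_iff_le_comap.1 h1) |>.symm
        refine IsPGroup.comap_of_ker_isPGroup ?_ π ?_
        · exact IsPGroup.of_card (n := 2) (alternatingGroup.kleinFour_card_of_card_eq_four (by simp))
        · have hker : π.ker = center K := by ext x; simp [hπ]
          rw [hker]
          exact IsPGroup.of_card (n := 1) (by rw [hZ, pow_one])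
      rw [h2']
      haveI hN : (alternatingGroup.kleinFour (Fin 4)).Normal :=
        alternatingGroup.normal_kleinFour (by simp)
      exact hN.comap π
    haveI := hTn
    have hcore : Cfsg.pCore 2 K = (T : Subgroup K) :=
      le_antisymm (PCore.pCore_le_sylow T) (PCore.le_pCore T.2)
    have hC : centralizer ((Cfsg.pCore 2 K : Subgroup K) : Set K) ≤ Cfsg.pCore 2 K :=
      PCore.centralizer_pCore_le_of_centralizer hO
        (PCore.isPSolvable_subgroup PCore.isPSolvable_of_isSolvable _)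
    obtain ⟨x₀, hx₀⟩ : ∃ x : (T : Subgroup K), orderOf x = 4 :=
      ⟨e.symm (QuaternionGroup.a 1), by rw [MulEquiv.orderOf_eq]; simp [QuaternionGroup.orderOf_a_one]⟩
    haveI : Fact (Nat.Prime 3) := ⟨Nat.prime_three⟩
    obtain ⟨d, hd⟩ := exists_prime_orderOf_dvd_card' (G := K) 3 (by rw [hK]; norm_num)
    obtain ⟨U, -, ⟨eU⟩⟩ := LocalStructure.exists_normal_SL23 (x₀ := (x₀ : K)) (by rw [hcore]; exact x₀.2) hC
      (Or.inr (by rw [hcore, hT, Subgroup.orderOf_coe, hx₀])) (by rw [hcore, hT]; norm_num)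
      (d := d) (by rw [hd]; norm_num) (fun h => by rw [h, orderOf_one] at hd; norm_num at hd)
    have hU : U = ⊤ := Subgroup.eq_top_of_card_eq U (by
      rw [hK, Nat.card_congr eU.toEquiv, Nat.card_eq_fintype_card]; decide +kernel)
    subst hU
    exact ⟨Subgroup.topEquiv.symm.trans eU⟩
  · exfalso
    refine hM' ((alternatingGroup (Fin 4)).comap f.toMonoidHom) ?_
    rw [index_comap_of_surjective _ f.surjective, alternatingGroup.index_eq_two]
  · exfalso
    haveI : Group.IsSolvable E := inferInstance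
    rcases hEk with ⟨F, iF, iF', -, h3, ⟨g⟩⟩ | ⟨⟨g⟩⟩
    · exact PSL2.not_isSolvable_psl (F := F) (by omega)
        (Group.isSolvable_of_surjective (f := g.toMonoidHom) g.surjective)
    · haveI : Group.IsSolvable (alternatingGroup (Fin 7)) :=
        Group.isSolvable_of_surjective (f := g.toMonoidHom) g.surjective
      haveI := alternatingGroup.isSimpleGroup (α := Fin 7) (by simp)
      have hco := IsSimpleGroup.comm_iff_isSolvable.2 (inferInstance : Group.IsSolvable (alternatingGroup (Fin 7)))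
      exact absurd (hco Seven.g0 Seven.y0) (by decide +kernel)

/-- `A₇` cannot occur. -/
theorem not_seven {H : Type u} [Group H] [Finite H] (S : Sylow 2 H)
    (hS : Cfsg.IsQuasiDihedral (S : Subgroup H) ∨ Cfsg.IsWreathed (S : Subgroup H))
    (L : Subgroup H) [L.Normal] (T : Sylow 2 L) (hTS : (T : Subgroup L) = ((S : Subgroup H) ⊓ L).subgroupOf L)
    (e : (T : Subgroup L) ≃* QuaternionGroup 4) (hZ : Nat.card (center L) = 2)
    (f : L ⧸ center L ≃* alternatingGroup (Fin 7)) : False := by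
  haveI : Fact (Nat.Prime 2) := ⟨Nat.prime_two⟩
  obtain ⟨A, c, hA⟩ := exists_shape hS
  haveI hAn : A.Normal := Subgroup.normal_of_index_eq_two hA.index
  set Q : Subgroup (S : Subgroup H) := L.subgroupOf (S : Subgroup H) with hQ
  -- `Q` is `T`
  let ι : (T : Subgroup L) ≃* Q :=
    { toFun := fun t => ⟨⟨((t : L) : H), by
        exact (hTS.le t.2).1⟩, mem_subgroupOf.2 (t : L).2⟩
      invFun := fun s => ⟨⟨((s : (S : Subgroup H)) : H), mem_subgroupOf.1 s.2⟩, by
        exact hTS.ge ⟨(s : (S : Subgroup H)).2, mem_subgroupOf.1 s.2⟩⟩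
      left_inv := fun _ => rfl
      right_inv := fun _ => rfl
      map_mul' := fun _ _ => rfl }
  let eQ : Q ≃* QuaternionGroup 4 := ι.symm.trans e
  obtain ⟨y, hyQ, hyA⟩ : ∃ y ∈ Q, y ∉ A := by
    by_contra hh
    push Not at hh
    obtain ⟨g, u, -, hgu⟩ := q16_noncentral
    apply hgu
    apply eQ.symm.injective
    rw [map_mul, map_mul, map_pow]
    exact Subtype.ext (hA.comm _ (hh _ (eQ.symm u).2) _ (hh _ (eQ.symm g ^ 2).2))
  have hg4 := hA.big Q ⟨eQ⟩ y hyQ hyA
  set g := ⁅c, y⁆ with hg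
  have hgQ : g ∈ Q := by
    rw [hg, commutatorElement_def]
    exact mul_mem ((inferInstance : Q.Normal).conj_mem y hyQ c) (inv_mem hyQ)
  have hgA : g ∈ A := by
    rw [hg, commutatorElement_def, mul_assoc, mul_assoc, ← mul_assoc y]
    exact mul_mem hA.mem (hAn.conj_mem _ (inv_mem hA.mem) y)
  have hcg : c * g * c⁻¹ = g := by rw [hA.comm c hA.mem g hgA, mul_inv_cancel_right]
  have hcy : c * y * c⁻¹ = g * y := by rw [hg, commutatorElement_def, inv_mul_cancel_right]
  -- in `L`
  set gt : (T : Subgroup L) := ι.symm ⟨g, hgQ⟩ with hgt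
  set yt : (T : Subgroup L) := ι.symm ⟨y, hyQ⟩ with hyt
  have hgt4 : gt ^ 4 ≠ 1 := by
    rw [hgt, ← map_pow]
    exact fun h => hg4 (congrArg Subtype.val (ι.symm.injective (h.trans (map_one _).symm)))
  obtain ⟨r8, ryy, rinv⟩ := q16_relations (e gt) (e yt)
    (by rw [← map_pow]; exact fun h => hgt4 (e.injective (h.trans (map_one _).symm)))
    (fun i h => hyA (by
      rw [← map_pow] at h
      have h1 := e.injective h
      rw [hyt, hgt, ← map_pow] at h1
      have h2 : y = g ^ i.val := congrArg Subtype.val (ι.symm.injective h1)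
      rw [h2]
      exact pow_mem hgA _))
  have r8' : gt ^ 8 = 1 := e.injective (by rw [map_pow, r8, map_one])
  have ryy' : yt * yt = gt ^ 4 := e.injective (by rw [map_mul, ryy, map_pow])
  have rinv' : yt * gt * yt⁻¹ = gt⁻¹ := e.injective (by rw [map_mul, map_mul, map_inv, map_inv, rinv])
  set gl : L := (gt : L) with hgl
  set yl : L := (yt : L) with hyl
  have hZT : center L ≤ (T : Subgroup L) := (IsPGroup.of_card (n := 1) (by rw [hZ, pow_one])).le_sylow_of_normal T
  have hg4Z : gl ^ 4 ∈ center L := by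
    haveI : Nontrivial (center L) := by rw [← Finite.one_lt_card_iff_nontrivial, hZ]; omega
    obtain ⟨⟨z, hz⟩, hz1⟩ := exists_ne (1 : center L)
    have hz2 : z ^ 2 = 1 := by
      have := Subgroup.orderOf_dvd_natCard (center L) hz
      rw [hZ] at this
      exact orderOf_dvd_iff_pow_eq_one.1 this
    have h1 := q16_unique (e gt) (e ⟨z, hZT hz⟩)
      (by rw [← map_pow]; exact fun h => hgt4 (e.injective (h.trans (map_one _).symm)))
      (by rw [← map_mul, ← map_one e]; exact congrArg e (Subtype.ext (by simpa [pow_two] using hz2)))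
      (fun h => hz1 (by
        have h' := e.injective (h.trans (map_one _).symm)
        exact Subtype.ext (show z = 1 from congrArg Subtype.val h')))
    rw [← map_pow] at h1
    have h2 : z = gl ^ 4 := congrArg Subtype.val (e.injective h1)
    exact h2 ▸ hz
  set π := f.toMonoidHom.comp (QuotientGroup.mk' (center L)) with hπ
  have hπ0 : ∀ x, π x = 1 ↔ x ∈ center L := fun x => by simp [hπ]
  set σ : L ≃* L := MulAut.conjNormal ((c : (S : Subgroup H)) : H) with hσ
  let φ : alternatingGroup (Fin 7) ≃* alternatingGroup (Fin 7) :=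
    f.symm.trans ((QuotientGroup.congr (center L) (center L) σ
      (Subgroup.characteristic_iff_map_eq.1 inferInstance σ)).trans f)
  have hφ : ∀ x, φ (π x) = π (σ x) := fun x => by
    show f ((QuotientGroup.congr (center L) (center L) σ _) (f.symm (f (QuotientGroup.mk' (center L) x)))) = _
    rw [f.symm_apply_apply]
    rfl
  refine Seven.no_swap φ (π gl) (π yl) ?_ ?_ ?_ ?_ ?_ ?_
  · rw [← map_pow]; exact (hπ0 _).2 hg4Z
  · rw [← map_mul, Ne, hπ0]
    intro hmem
    apply hgt4
    have h := Subgroup.orderOf_dvd_natCard (center L) hmem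
    rw [hZ] at h
    have h' := orderOf_dvd_iff_pow_eq_one.1 h
    refine Subtype.ext ?_
    rw [Subgroup.coe_pow, OneMemClass.coe_one, ← hgl, ← h', pow_succ, pow_succ, pow_two, pow_two]
    group
  · rw [← map_mul, hπ0]
    have : yl * yl = gl ^ 4 := congrArg Subtype.val ryy'
    rw [this]; exact hg4Z
  · rw [← map_mul, ← map_inv, ← map_mul, ← map_inv]
    exact congrArg π (congrArg Subtype.val rinv')
  · rw [← map_mul, hφ, map_mul σ]
    have h1 : σ gl = gl := Subtype.ext (congrArg (fun s : ↥(S : Subgroup H) => (s : H)) hcg :)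
    rw [h1]
  · rw [hφ, ← map_mul]
    have h1 : σ yl = gl * yl := Subtype.ext (congrArg (fun s : ↥(S : Subgroup H) => (s : H)) hcy :)
    exact congrArg π h1

end Cfsg.Agent.GWRankOne
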